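import Groth.Agent.Coherent.K54.FibreCx
import Groth.Agent.CurvesB.NodalRpush
import Groth.Agent.Dcoh.FinLocFree

/-!
# Vanishing and local freeness of higher direct images near a point

`f : X ⟶ S` proper of finite presentation, `F` finitely presented and flat over `S`.

* `exists_nhd`: vanishing of `H^p` of the fibre at `s` spreads to a neighbourhood of `s`.
* `Good f F V p`: the fibre rank in degree `p` is zero over `V`.
* `subsingleton_sections`: then `Γ(W, R^p f_* F) = 0` for affine `W ⊆ V`.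
* `isZero_restrict`: and `(R^p f_* F)|_V = 0` if `V` is affine.
* `isFinLocFree_restrict`: `R^{p+1} f_* F` is finite locally free over `V` if the ranks in degrees `p` and
  `p + 2` vanish; `isFinLocFree_restrict_zero`: `R^0 f_* F` is if the rank in degree `1` vanishes.
-/

set_option autoImplicit false
universe u

open AlgebraicGeometry CategoryTheory CategoryTheory.Limits TopologicalSpace

namespace Groth.Agent.Coherent.K46.NearVan

variable {X S : Scheme.{u}} (f : X ⟶ S)

/-- The fibre rank in degree `p` vanishes over `V`. -/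
def Good (F : X.Modules) (V : S.Opens) (p : ℕ) : Prop := ∀ y ∈ V, CohIII.fiberRank f F p y = 0

theorem Good.mono {F : X.Modules} {V W : S.Opens} {p : ℕ} (h : Good f F V p) (hW : W ≤ V) :
    Good f F W p := fun y hy => h y (hW hy)

theorem Good.dRank_eq_zero {F : X.Modules} {V : S.Opens} {p : ℕ} (h : Good f F V p)
    (hV : IsAffineOpen V) (P : ChainComplex (ModuleCat.{u} Γ(S, V)) ℤ)
    (hr : ∀ y : V, CohIII.fiberRank f F p y.1 = CohIII.dRank P (-(p : ℤ)) (hV.primeIdealOf y))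
    (x : PrimeSpectrum Γ(S, V)) : CohIII.dRank P (-(p : ℤ)) x = 0 := by
  have h1 := hr ⟨hV.fromSpec x, Groth.Agent.Ega3B.SpecPoint.fromSpec_mem hV x⟩
  rw [Groth.Agent.Ega3B.SpecPoint.primeIdealOf_fromSpec] at h1
  rw [← h1]
  exact h _ (Groth.Agent.Ega3B.SpecPoint.fromSpec_mem hV x)

variable [IsProper f] [LocallyOfFinitePresentation f] [HasInjectiveResolutions X.Modules]
  (F : X.Modules) (hF : CohB1.IsFP F) (hfl : FlatMod.IsFlatOver f F)

include hF hfl

theorem exists_nhd (s : S) (p : ℕ) (h : Subsingleton (CohIII.fiberH f F s p)) :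
    ∃ W : S.Opens, s ∈ W ∧ Good f F W p := by
  obtain ⟨V, hV, hsV, -⟩ := exists_isAffineOpen_mem_and_subset (x := s) (U := ⊤) trivial
  obtain ⟨P, hP, -, -, hr⟩ := K54.FibreCx.package f F hF hfl V hV
  have i1 := (hP (-(p : ℤ))).1
  have i2 := (hP (-(p : ℤ) - 1)).1
  have i3 := (hP (-(p : ℤ) - 1)).2
  have i4 : Module.FinitePresentation Γ(S, V) (P.X (-(p : ℤ) - 1)) :=
    Module.finitePresentation_of_projective _ _
  have husc := Groth.Agent.Ega3A.DRank.upperSemicontinuous_dRank P (-(p : ℤ)) (-(p : ℤ) - 1) (by simp)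
  have hopen : IsOpen {z | CohIII.dRank P (-(p : ℤ)) z < 1} :=
    upperSemicontinuous_iff_isOpen_preimage.1 husc 1
  refine ⟨⟨hV.fromSpec '' {z | CohIII.dRank P (-(p : ℤ)) z < 1},
    hV.fromSpec.isOpenEmbedding.isOpenMap _ hopen⟩, ⟨_, ?_, hV.fromSpec_primeIdealOf ⟨s, hsV⟩⟩, ?_⟩
  · change CohIII.dRank P (-(p : ℤ)) (hV.primeIdealOf ⟨s, hsV⟩) < 1
    rw [← (hr ⟨s, hsV⟩ p).2]
    have : CohIII.fiberRank f F p s = 0 := Module.finrank_zero_of_subsingleton
    change CohIII.fiberRank f F p s < 1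
    omega
  · rintro _ ⟨z, hz, rfl⟩
    have h1 := (hr ⟨hV.fromSpec z, Groth.Agent.Ega3B.SpecPoint.fromSpec_mem hV z⟩ p).2
    rw [Groth.Agent.Ega3B.SpecPoint.primeIdealOf_fromSpec] at h1
    rw [h1]
    have : CohIII.dRank P (-(p : ℤ)) z < 1 := hz
    omega

theorem subsingleton_sections {V : S.Opens} (hV : IsAffineOpen V) {p : ℕ} (h : Good f F V p) :
    Subsingleton Γ((Coh.Rpush f p).obj F, V) := by
  obtain ⟨P, hP, -, hG, hr⟩ := K54.FibreCx.package f F hF hfl V hV
  have h0 := K54.CxAlg.isZero_homology_of_dRank_eq_zero P hP (-(p : ℤ))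
    (h.dRank_eq_zero f hV P fun y => (hr y p).2)
  have := ModuleCat.subsingleton_of_isZero h0
  obtain ⟨e⟩ := hG p
  exact e.toEquiv.subsingleton

theorem isZero_restrict {V : S.Opens} (hV : IsAffineOpen V) {p : ℕ} (h : Good f F V p) :
    IsZero (((Coh.Rpush f p).obj F).restrict V.ι) :=
  (Groth.Agent.Ega3B.RpushAff.isZero_restrict_iff' _ (Groth.Agent.CohqA.RelCoh.isQCoh_Rpush f F
    (Groth.Agent.Models2.FPCoh.isQCoh_of_isFP hF) p) hV).2 (subsingleton_sections f F hF hfl hV h)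

theorem sections_finite_projective {V : S.Opens} (hV : IsAffineOpen V) {p : ℕ} (h : Good f F V p)
    (h2 : Good f F V (p + 2)) :
    Module.Finite Γ(S, V) Γ((Coh.Rpush f (p + 1)).obj F, V) ∧
      Module.Projective Γ(S, V) Γ((Coh.Rpush f (p + 1)).obj F, V) := by
  obtain ⟨P, hP, -, hG, hr⟩ := K54.FibreCx.package f F hF hfl V hV
  have a1 := (K54.CxAlg.projective_opcycles_of_dRank_eq_zero P hP (-(p : ℤ)) (-((p + 1 : ℕ) : ℤ))
    (by push_cast; ring) (h.dRank_eq_zero f hV P fun y => (hr y p).2)).2.1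
  have a2 := (K54.CxAlg.projective_opcycles_of_dRank_eq_zero P hP (-((p + 2 : ℕ) : ℤ))
    (-((p + 3 : ℕ) : ℤ)) (by push_cast; ring)
    (h2.dRank_eq_zero f hV P fun y => (hr y (p + 2)).2)).1
  obtain ⟨b1, b2, -⟩ := K54.CxAlg.finite_projective_homology P hP (-((p + 1 : ℕ) : ℤ))
    (-((p + 2 : ℕ) : ℤ)) (by push_cast; ring) a1 a2
  obtain ⟨e⟩ := hG (p + 1)
  exact ⟨Module.Finite.equiv e.symm, Module.Projective.of_equiv e.symm⟩

theorem sections_finite_projective_zero {V : S.Opens} (hV : IsAffineOpen V) (h : Good f F V 1) :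
    Module.Finite Γ(S, V) Γ((Coh.Rpush f 0).obj F, V) ∧
      Module.Projective Γ(S, V) Γ((Coh.Rpush f 0).obj F, V) := by
  obtain ⟨P, hP, ⟨b, hb⟩, hG, hr⟩ := K54.FibreCx.package f F hF hfl V hV
  have a1 : Module.Projective Γ(S, V) (P.opcycles 0) := by
    have hz : IsZero (P.X 1) := hb 1 (Or.inr one_pos)
    have hrel : (ComplexShape.down ℤ).prev 0 = 1 := (ComplexShape.down ℤ).prev_eq' (by simp)
    have hi : IsIso (P.pOpcycles 0) := P.isIso_pOpcycles 1 0 hrel (hz.eq_of_src _ _)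
    have := (hP 0).2
    exact Module.Projective.of_equiv (asIso (P.pOpcycles 0)).toLinearEquiv
  have a2 := (K54.CxAlg.projective_opcycles_of_dRank_eq_zero P hP (-((1 : ℕ) : ℤ))
    (-((2 : ℕ) : ℤ)) (by norm_num) (h.dRank_eq_zero f hV P fun y => (hr y 1).2)).1
  obtain ⟨b1, b2, -⟩ := K54.CxAlg.finite_projective_homology P hP (-((0 : ℕ) : ℤ))
    (-((1 : ℕ) : ℤ)) (by norm_num) (by simpa using a1) a2
  obtain ⟨e⟩ := hG 0
  exact ⟨Module.Finite.equiv e.symm, Module.Projective.of_equiv e.symm⟩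

omit [IsProper f] [LocallyOfFinitePresentation f] [HasInjectiveResolutions X.Modules] hF hfl in
theorem restrict_smul (M : S.Modules) (V : S.Opens) (W : V.toScheme.Opens) (c : Γ(V.toScheme, W))
    (s : Γ(M.restrict V.ι, W)) :
    c • s = ((show Γ(S, V.ι ''ᵁ W) from c) • (show Γ(M, V.ι ''ᵁ W) from s) : Γ(M, V.ι ''ᵁ W)) := by
  have h1 : c • s = (((V.ι.appIso W).inv c) • (show Γ(M, V.ι ''ᵁ W) from s) : Γ(M, V.ι ''ᵁ W)) := rfl
  rw [h1, Scheme.Opens.ι_appIso]
  rfl

omit [IsProper f] [LocallyOfFinitePresentation f] [HasInjectiveResolutions X.Modules] hF hfl in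
/-- Finite projective sections of a restriction. -/
theorem restrict_finite_projective (M : S.Modules) (V : S.Opens) (W : V.toScheme.Opens)
    (h : Module.Finite Γ(S, V.ι ''ᵁ W) Γ(M, V.ι ''ᵁ W) ∧
      Module.Projective Γ(S, V.ι ''ᵁ W) Γ(M, V.ι ''ᵁ W)) :
    Module.Finite Γ(V.toScheme, W) Γ(M.restrict V.ι, W) ∧
      Module.Projective Γ(V.toScheme, W) Γ(M.restrict V.ι, W) := by
  let m1 : Module Γ(V.toScheme, W) Γ(M, V.ι ''ᵁ W) :=
    inferInstanceAs (Module Γ(S, V.ι ''ᵁ W) Γ(M, V.ι ''ᵁ W))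
  let e : Γ(M, V.ι ''ᵁ W) ≃ₗ[Γ(V.toScheme, W)] Γ(M.restrict V.ι, W) :=
    { toFun := fun s => s
      invFun := fun s => s
      left_inv := fun _ => rfl
      right_inv := fun _ => rfl
      map_add' := fun _ _ => rfl
      map_smul' := fun c s => (restrict_smul M V W c s).symm }
  have h1 : Module.Finite Γ(V.toScheme, W) Γ(M, V.ι ''ᵁ W) := h.1
  have h2 : Module.Projective Γ(V.toScheme, W) Γ(M, V.ι ''ᵁ W) := h.2
  exact ⟨Module.Finite.equiv e, Module.Projective.of_equiv e⟩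

omit [IsProper f] [LocallyOfFinitePresentation f] [HasInjectiveResolutions X.Modules] hF hfl in
/-- Local freeness of a restriction to an open from the sections over its affine opens. -/
theorem isFinLocFree_restrict_of_sections (M : S.Modules) (hM : Coh.IsQCoh M) (V : S.Opens)
    (h : ∀ W : S.Opens, W ≤ V → IsAffineOpen W →
      Module.Finite Γ(S, W) Γ(M, W) ∧ Module.Projective Γ(S, W) Γ(M, W)) :
    FlatMod.IsFinLocFree (M.restrict V.ι) := by
  refine Groth.Agent.CurvesB.NodalRpush.isFinLocFree_of_sections (M.restrict V.ι)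
    (Groth.Agent.CohqB.LocalQC.isQCoh_restrict V.ι hM) fun W hW => ?_
  exact restrict_finite_projective M V W
    (h (V.ι ''ᵁ W) (V.ι_image_le W) (hW.image_of_isOpenImmersion V.ι))

theorem isFinLocFree_restrict (V : S.Opens) {p : ℕ} (h : Good f F V p) (h2 : Good f F V (p + 2)) :
    FlatMod.IsFinLocFree (((Coh.Rpush f (p + 1)).obj F).restrict V.ι) :=
  isFinLocFree_restrict_of_sections _ (Groth.Agent.CohqA.RelCoh.isQCoh_Rpush f F
    (Groth.Agent.Models2.FPCoh.isQCoh_of_isFP hF) _) V fun _ hWV hW =>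
    sections_finite_projective f F hF hfl hW (h.mono f hWV) (h2.mono f hWV)

theorem isFinLocFree_restrict_zero (V : S.Opens) (h : Good f F V 1) :
    FlatMod.IsFinLocFree (((Coh.Rpush f 0).obj F).restrict V.ι) :=
  isFinLocFree_restrict_of_sections _ (Groth.Agent.CohqA.RelCoh.isQCoh_Rpush f F
    (Groth.Agent.Models2.FPCoh.isQCoh_of_isFP hF) _) V fun _ hWV hW =>
    sections_finite_projective_zero f F hF hfl hW (h.mono f hWV)

theorem isFinLocFree_restrict_push (V : S.Opens) (h : Good f F V 1) :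
    FlatMod.IsFinLocFree (((Coh.push f).obj F).restrict V.ι) := by
  have e0 : (Coh.Rpush f 0).obj F ≅ (Coh.push f).obj F :=
    ((Scheme.Modules.pushforward f).rightDerivedZeroIsoSelf).app F
  exact Groth.Agent.Dcoh.FinLocFree.isFinLocFree_of_iso ((Scheme.Modules.restrictFunctor V.ι).mapIso e0)
    (isFinLocFree_restrict_zero f F hF hfl V h)

end Groth.Agent.Coherent.K46.NearVan
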