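import Groth.Agent.Coherent.K46.PushGG
import Groth.Agent.Gaga.H883.SerreRel
import Groth.Agent.VarietyB.HHPush
import Groth.Agent.CohqB.FinAmple
import Groth.Agent.Dcoh.PushRestrict
import Groth.Agent.EGA2.K30.AmpleLoc
import Groth.Agent.S2332
import Groth.Agent.S2359
import Groth.Agent.CohqA.UnifVan

/-!
# Serre's theorem after an affine base change
-/

set_option autoImplicit false
universe u

open CategoryTheory CategoryTheory.Limits AlgebraicGeometry TopologicalSpace Opposite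

namespace Groth.Agent.Coherent.K46.AffTwist

theorem subsingleton_HH_push {X X' : Scheme.{u}} (g : X' ⟶ X) [IsAffineHom g] {E : X'.Modules}
    (hE : Coh.IsQCoh E) (q : ℕ) (h : Subsingleton (Coh.HH X' E q)) :
    Subsingleton (Coh.HH X ((Coh.push g).obj E) q) := by
  let _ : X.Over (Spec (CommRingCat.of (ULift.{u} ℤ))) := ⟨specULiftZIsTerminal.from X⟩
  let _ : X'.Over (Spec (CommRingCat.of (ULift.{u} ℤ))) := ⟨g ≫ specULiftZIsTerminal.from X⟩
  obtain ⟨e⟩ := VarietyB.HHPush.exists_linearEquiv g (ULift.{u} ℤ) rfl E hE q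
  exact e.toEquiv.subsingleton_congr.2 h

theorem subsingleton_HHon_push {X X' : Scheme.{u}} (g : X' ⟶ X) [IsAffineHom g] {E : X'.Modules}
    (hE : Coh.IsQCoh E) (U : X.Opens) (q : ℕ) (h : Subsingleton (Coh.HHon X' E (g ⁻¹ᵁ U) q)) :
    Subsingleton (Coh.HHon X ((Coh.push g).obj E) U q) := by
  have hg : IsAffineHom (g ∣_ U) := MorphismProperty.of_isPullback
    (isPullback_morphismRestrict g U).flip inferInstance
  have h1 := subsingleton_HH_push (g ∣_ U) (PerfA.QCohSerre.isQCoh_restrict (g ⁻¹ᵁ U).ι hE) q h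
  exact CohqA.UnifVan.subsingleton_of_iso
    ((Dcoh.PushRestrict.pushRestrictIsoOfIsPullback g (g ∣_ U) (g ⁻¹ᵁ U).ι U.ι
      (isPullback_morphismRestrict g U).flip).app E).symm q h1

variable {X Y X' Y' : Scheme.{u}} {f : X ⟶ Y} {g : Y' ⟶ Y} {g' : X' ⟶ X} {f' : X' ⟶ Y'}

theorem isRelAmple_of_isPullback [QuasiCompact f] (H : IsPullback g' f' f g) {L : X.Modules}
    (hL : RelAmple.IsRelAmple f L) :
    RelAmple.IsRelAmple f' ((Scheme.Modules.pullback g').obj L) := by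
  have h1 := S2332.result f g L hL
  have h2 := S2359.result (pullback.snd f g) H.isoPullback.hom
    H.isoPullback.hom.isOpenEmbedding.isEmbedding _ h1
  rw [H.isoPullback_hom_snd] at h2
  refine K30.AmpleLoc.isRelAmple_of_iso ?_ h2
  exact (Scheme.Modules.pullbackComp H.isoPullback.hom (pullback.fst f g)).app L ≪≫
    (Scheme.Modules.pullbackCongr H.isoPullback_hom_fst).app L

/-- Global generation of `g'_* E` over an affine open of the base. -/
theorem isGloballyGenerated_restrict_push [IsAffineHom g] (H : IsPullback g' f' f g)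
    {E : X'.Modules} (hE : Coh.IsQCoh E) (V : Y.Opens) (hV : IsAffineOpen V)
    (h : Curv2.IsGloballyGenerated (E.restrict (f' ⁻¹ᵁ (g ⁻¹ᵁ V)).ι)) :
    Curv2.IsGloballyGenerated (((Coh.push g').obj E).restrict (f ⁻¹ᵁ V).ι) := by
  let U' : X'.Opens := f' ⁻¹ᵁ (g ⁻¹ᵁ V)
  have hU : U' ≤ g' ⁻¹ᵁ (f ⁻¹ᵁ V) := by
    intro x hx
    have h1 : g (f' x) ∈ V := hx
    change f (g' x) ∈ V
    rwa [← Scheme.Hom.comp_apply, H.w, Scheme.Hom.comp_apply]
  let gV : (U' : Scheme.{u}) ⟶ (f ⁻¹ᵁ V : X.Opens) := g'.resLE (f ⁻¹ᵁ V) U' hU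
  have hgV : gV ≫ (f ⁻¹ᵁ V).ι = U'.ι ≫ g' := Scheme.Hom.resLE_comp_ι _ _
  have hV' : IsAffine (V : Scheme.{u}) := hV
  have hV'' : IsAffine (g ⁻¹ᵁ V : Y'.Opens) := hV.preimage g
  have w : gV ≫ (f ∣_ V) = (f' ∣_ (g ⁻¹ᵁ V)) ≫ (g ∣_ V) := by
    rw [← cancel_mono V.ι, Category.assoc, Category.assoc, morphismRestrict_ι, morphismRestrict_ι,
      reassoc_of% hgV, H.w]
    have h1 := morphismRestrict_ι f' (g ⁻¹ᵁ V)
    rw [reassoc_of% h1]
  have Q1 : IsPullback U'.ι (f' ∣_ (g ⁻¹ᵁ V)) f' (g ⁻¹ᵁ V).ι :=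
    (isPullback_morphismRestrict f' (g ⁻¹ᵁ V)).flip
  have Q2 : IsPullback (g ⁻¹ᵁ V).ι (g ∣_ V) g V.ι := (isPullback_morphismRestrict g V).flip
  have Q3 : IsPullback (f ⁻¹ᵁ V).ι (f ∣_ V) f V.ι := (isPullback_morphismRestrict f V).flip
  have Q4 : IsPullback gV (f' ∣_ (g ⁻¹ᵁ V)) (f ∣_ V) (g ∣_ V) := by
    have h1 := Q1.paste_horiz H
    rw [← hgV, ← morphismRestrict_ι g V] at h1
    exact IsPullback.of_right h1 w Q3
  have Q5 : IsPullback U'.ι gV g' (f ⁻¹ᵁ V).ι := by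
    have h1 := Q1.paste_vert Q2
    rw [← H.w, ← w] at h1
    exact IsPullback.of_bot h1 hgV.symm Q3
  exact Ega2.GlobGenCrit.isGloballyGenerated_of_iso
    ((Dcoh.PushRestrict.pushRestrictIsoOfIsPullback g' gV U'.ι (f ⁻¹ᵁ V).ι Q5).app E).symm
    (PushGG.isGloballyGenerated_push Q4 (PerfA.QCohSerre.isQCoh_restrict U'.ι hE) h)

/-- The counit `f^* f_* M_n ⟶ M_n` is an epimorphism for large `n` if over every affine open of the compact base the
`M_n` are globally generated for large `n`. -/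
theorem exists_epi_counit {X S : Scheme.{u}} [CompactSpace S] (f : X ⟶ S) (M : ℕ → X.Modules)
    (key : ∀ W : S.affineOpens, ∃ n₀ : ℕ, ∀ n : ℕ, n₀ ≤ n →
      Curv2.IsGloballyGenerated ((M n).restrict (f ⁻¹ᵁ W.1).ι)) :
    ∃ n₀ : ℕ, ∀ n : ℕ, n₀ ≤ n →
      Epi ((Scheme.Modules.pullbackPushforwardAdjunction f).counit.app (M n)) := by
  choose N hN using key
  obtain ⟨t, ht⟩ := CompactSpace.elim_nhds_subcover (X := S)
    (fun x => ((exists_isAffineOpen_mem_and_subset (x := x) (U := ⊤) trivial).choose : Set S))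
    (fun x => (exists_isAffineOpen_mem_and_subset (x := x) (U := ⊤) trivial).choose.isOpen.mem_nhds
      (exists_isAffineOpen_mem_and_subset (x := x) (U := ⊤) trivial).choose_spec.2.1)
  let W : S → S.affineOpens := fun x =>
    ⟨(exists_isAffineOpen_mem_and_subset (x := x) (U := ⊤) trivial).choose,
      (exists_isAffineOpen_mem_and_subset (x := x) (U := ⊤) trivial).choose_spec.1⟩
  refine ⟨t.sup fun x => N (W x), fun n hn => ?_⟩
  refine Sga67.PushLocal.epi_counit (ι := t) (V := fun x => ((W x.1).1 : Scheme.{u}))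
    (P := fun x => ((f ⁻¹ᵁ (W x.1).1 : X.Opens) : Scheme.{u})) (h := fun x => (W x.1).1.ι)
    (j := fun x => (f ⁻¹ᵁ (W x.1).1).ι) (π := fun x => f ∣_ (W x.1).1) (fun s => ?_)
    (fun x => (isPullback_morphismRestrict f (W x.1).1).flip) _ fun x => ?_
  · have hx : s ∈ ⋃ y ∈ t, ((W y).1 : Set S) := by
      rw [show (⋃ y ∈ t, ((W y).1 : Set S)) = ⊤ from ht]
      trivial
    simp only [Set.mem_iUnion] at hx
    obtain ⟨y, hy, hxy⟩ := hx
    exact ⟨⟨y, hy⟩, by rw [Scheme.Opens.range_ι]; exact hxy⟩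
  · exact Sga67.SerreVB.epi_counit (f ∣_ (W x.1).1)
      (hN (W x.1) n ((Finset.le_sup (f := fun x => N (W x)) x.2).trans hn))

end Groth.Agent.Coherent.K46.AffTwist
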