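import Groth.Agent.Ega2.DVRDominate
import Mathlib.AlgebraicGeometry.FunctionField
import Mathlib.AlgebraicGeometry.Noetherian
import Mathlib.AlgebraicGeometry.Stalk
import Mathlib.RingTheory.DiscreteValuationRing.Basic

/-!
# Normal Noetherian local schemes through a point of an integral scheme
-/

set_option autoImplicit false
universe u

open CategoryTheory CategoryTheory.Limits AlgebraicGeometry TopologicalSpace

namespace Groth.Agent.Coherent.K46.DvrPoint

/-- Through every point of a locally Noetherian integral scheme passes the spectrum of a Noetherian normal domain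
with the same function field. -/
theorem exists_normal (Y : Scheme.{u}) [IsIntegral Y] [IsLocallyNoetherian Y] (y : Y) :
    ∃ (V : Type u) (_ : CommRing V) (_ : IsDomain V) (_ : IsNoetherianRing V)
      (_ : IsIntegrallyClosed V) (_ : Algebra V Y.functionField)
      (_ : IsFractionRing V Y.functionField) (u : Spec (CommRingCat.of V) ⟶ Y),
      Spec.map (CommRingCat.ofHom (algebraMap V Y.functionField)) ≫ u =
        Y.fromSpecStalk (genericPoint Y) ∧ y ∈ Set.range u := by
  by_cases hm : IsLocalRing.maximalIdeal (Y.presheaf.stalk y) = ⊥
  · -- `y` is the generic point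
    have hy : genericPoint Y = y := by
      have h1 : genericPoint Y ∈ Set.range (Y.fromSpecStalk y) := by
        rw [Y.range_fromSpecStalk]
        exact genericPoint_specializes y
      obtain ⟨z, hz⟩ := h1
      have h2 : (IsLocalRing.closedPoint (Y.presheaf.stalk y) : Spec (Y.presheaf.stalk y)) ⤳ z := by
        apply (PrimeSpectrum.le_iff_specializes _ _).mp
        change IsLocalRing.maximalIdeal (Y.presheaf.stalk y) ≤ _
        rw [hm]
        exact bot_le
      have h3 := h2.map (Y.fromSpecStalk y).continuous
      rw [Scheme.fromSpecStalk_closedPoint, hz] at h3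
      exact (genericPoint_specializes y).antisymm h3 |>.eq
    refine ⟨Y.functionField, inferInstance, inferInstance, inferInstance, inferInstance,
      Algebra.id _, inferInstance, Y.fromSpecStalk (genericPoint Y), ?_, ?_⟩
    · exact (congrArg (fun t => t ≫ Y.fromSpecStalk (genericPoint Y))
        (Spec.map_id Y.functionField)).trans (Category.id_comp _)
    · rw [Y.range_fromSpecStalk, ← hy]
      exact specializes_rfl
  · obtain ⟨V, hV, hAV, hVm⟩ := Groth.Agent.Ega2.DVRDominate.exists_dvr_of_isLocalRing
      (A := Y.presheaf.stalk y) (K := Y.functionField)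
      (IsFractionRing.injective (Y.presheaf.stalk y) Y.functionField) hm ∅ (by
        rw [Finset.coe_empty, Set.union_empty, eq_top_iff]
        intro z _
        obtain ⟨a, b, hb, rfl⟩ := IsFractionRing.div_surjective (A := Y.presheaf.stalk y) z
        exact div_mem (Subfield.subset_closure ⟨a, rfl⟩) (Subfield.subset_closure ⟨b, rfl⟩))
    let τ : Y.presheaf.stalk y →+* V :=
      (algebraMap (Y.presheaf.stalk y) Y.functionField).codRestrict V.toSubring hAV
    let u : Spec (CommRingCat.of V) ⟶ Y := Spec.map (CommRingCat.ofHom τ) ≫ Y.fromSpecStalk y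
    have hlocal : IsLocalHom τ := by
      refine ⟨fun a ha => ?_⟩
      by_contra hcon
      have h1 : a ∈ IsLocalRing.maximalIdeal (Y.presheaf.stalk y) := hcon
      have h2 := (hVm a).2 h1
      rw [ValuationSubring.mem_nonunits_iff_exists_mem_maximalIdeal] at h2
      obtain ⟨h3, h4⟩ := h2
      exact h4 ha
    refine ⟨V, inferInstance, inferInstance, inferInstance, inferInstance, inferInstance,
      inferInstance, u, ?_, ?_⟩
    · change Spec.map _ ≫ Spec.map _ ≫ Y.fromSpecStalk y = _
      rw [← Spec.map_comp_assoc]
      exact Scheme.SpecMap_stalkSpecializes_fromSpecStalk (X := Y) (genericPoint_specializes y)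
    · refine ⟨IsLocalRing.closedPoint V, ?_⟩
      have : IsLocalHom (CommRingCat.ofHom τ).hom := hlocal
      change (Spec.map (CommRingCat.ofHom τ) ≫ Y.fromSpecStalk y)
        (IsLocalRing.closedPoint (CommRingCat.of V)) = y
      rw [Scheme.Hom.comp_apply, Spec_closedPoint, Scheme.fromSpecStalk_closedPoint]

end Groth.Agent.Coherent.K46.DvrPoint
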