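import Groth.Agent.Coherent.K46.GrTF

/-!
# Eventual generation of the graded module of sections over a ring generated in degree one
-/

universe u

noncomputable section

open DirectSum CategoryTheory CategoryTheory.Limits AlgebraicGeometry TopologicalSpace Opposite TopCat

namespace Groth.Agent.Coherent.K46.GrGen

open GrSecAlg GrSec GrTF

variable {S M σ τ : Type u} [CommRing S] [SetLike σ S] [AddSubgroupClass σ S] (𝒜 : ℕ → σ) [GradedRing 𝒜]
variable [AddCommGroup M] [Module S M] [SetLike τ M] [AddSubgroupClass τ M] (ℳ : ℕ → τ)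

/-- If the irrelevant ideal is generated by the degree one part, then `𝒜 (e + f)` is spanned by the products of
elements of `𝒜 e` and `𝒜 f`. -/
theorem mem_closure_mul (hgen : (HomogeneousIdeal.irrelevant 𝒜).toIdeal = Ideal.span (𝒜 1 : Set S)) (e f : ℕ) :
    ∀ s ∈ 𝒜 (e + f), s ∈ AddSubmonoid.closure {p : S | ∃ x ∈ 𝒜 e, ∃ y ∈ 𝒜 f, p = x * y} := by
  induction e with
  | zero =>
    intro s hs
    rw [zero_add] at hs
    exact AddSubmonoid.subset_closure ⟨1, SetLike.GradedOne.one_mem, s, hs, (one_mul s).symm⟩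
  | succ e ih =>
    intro s hs
    have hs' : s ∈ Ideal.span (𝒜 1 : Set S) := by
      rw [← hgen]
      exact HomogeneousIdeal.mem_irrelevant_of_mem 𝒜 (show 0 < e + 1 + f by omega) hs
    have key : ∀ y ∈ Ideal.span (𝒜 1 : Set S), ∀ c : S, cmp 𝒜 (e + 1 + f) (c * y) ∈
        AddSubmonoid.closure {p : S | ∃ x ∈ 𝒜 (e + 1), ∃ y ∈ 𝒜 f, p = x * y} := by
      intro y hy
      induction hy using Submodule.span_induction with
      | mem u hu =>
        intro c
        rw [show e + 1 + f = (e + f) + 1 by ring, ← smul_eq_mul, cmp_smul_of_mem 𝒜 𝒜 hu, smul_eq_mul]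
        have h1 := ih _ (cmp_mem 𝒜 (e + f) c)
        generalize cmp 𝒜 (e + f) c = q at h1 ⊢
        induction h1 using AddSubmonoid.closure_induction with
        | mem p hp =>
          obtain ⟨x, hx, y, hy, rfl⟩ := hp
          refine AddSubmonoid.subset_closure ⟨x * u, SetLike.mul_mem_graded hx hu, y, hy, ?_⟩
          ring
        | zero => rw [zero_mul]; exact zero_mem _
        | add p q _ _ hp hq => rw [add_mul]; exact add_mem hp hq
      | zero => intro c; rw [mul_zero, map_zero]; exact zero_mem _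
      | add x y _ _ hx hy => intro c; rw [mul_add, map_add]; exact add_mem (hx c) (hy c)
      | smul a x _ hx => intro c; rw [smul_eq_mul, ← mul_assoc]; exact hx _
    have := key s hs' 1
    rwa [one_mul, cmp_same 𝒜 hs] at this

variable [DirectSum.Decomposition ℳ] [SetLike.GradedSMul 𝒜 ℳ]

theorem mem_closure_smul (hgen : (HomogeneousIdeal.irrelevant 𝒜).toIdeal = Ideal.span (𝒜 1 : Set S))
    (hTF : ∃ k : ℕ, (Submodule.span S (⋃ i ∈ Set.Ici k, (ℳ i : Set M))).FG) (N : ℕ) :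
    ∃ E : ℕ, N ≤ E ∧ ∀ e : ℕ, ∀ m ∈ ℳ (E + e),
      m ∈ AddSubmonoid.closure {p : M | ∃ a ∈ 𝒜 e, ∃ m₀ ∈ ℳ E, p = a • m₀} := by
  obtain ⟨k, hk⟩ := hTF
  obtain ⟨T, hT, hspan⟩ := (Submodule.fg_span_iff_fg_span_finset_subset (R := S)
    (⋃ i ∈ Set.Ici k, (ℳ i : Set M))).mp hk
  have h : ∀ x : M, ∃ d : ℕ, x ∈ T → x ∈ ℳ d := by
    intro x
    by_cases hx : x ∈ T
    · obtain ⟨d, hd, hxd⟩ := Set.mem_iUnion₂.mp (hT hx)
      exact ⟨d, fun _ => hxd⟩
    · exact ⟨0, fun h => absurd h hx⟩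
  choose δ hδ using h
  refine ⟨max (T.sup δ) (max N k), by omega, fun e m hm => ?_⟩
  set E := max (T.sup δ) (max N k) with hE
  have hm' : m ∈ Submodule.span S (T : Set M) := by
    have : m ∈ truncSub (S := S) ℳ k := mem_truncSub ℳ (show k ≤ E + e by omega) hm
    rw [truncSub, hspan] at this
    exact this
  have key : ∀ y ∈ Submodule.span S (T : Set M), ∀ c : S, cmp ℳ (E + e) (c • y) ∈
      AddSubmonoid.closure {p : M | ∃ a ∈ 𝒜 e, ∃ m₀ ∈ ℳ E, p = a • m₀} := by
    intro y hy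
    induction hy using Submodule.span_induction with
    | mem t ht =>
      intro c
      have h1 : δ t ≤ T.sup δ := Finset.le_sup (show t ∈ T from ht)
      obtain ⟨f, hf⟩ := Nat.exists_eq_add_of_le' (show δ t ≤ E by omega)
      have h2 : cmp ℳ (E + e) (c • t) = cmp 𝒜 (e + f) c • t := by
        rw [← cmp_smul_of_mem 𝒜 ℳ (hδ t ht) (e + f) c]
        congr 2
        omega
      rw [h2]
      have h3 := mem_closure_mul 𝒜 hgen e f _ (cmp_mem 𝒜 (e + f) c)
      generalize cmp 𝒜 (e + f) c = q at h3 ⊢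
      induction h3 using AddSubmonoid.closure_induction with
      | mem p hp =>
        obtain ⟨x, hx, y, hy, rfl⟩ := hp
        refine AddSubmonoid.subset_closure ⟨x, hx, y • t, ?_, ?_⟩
        · rw [hf]
          exact SetLike.GradedSMul.smul_mem hy (hδ t ht)
        · rw [mul_smul]
      | zero => rw [zero_smul]; exact zero_mem _
      | add p q _ _ hp hq => rw [add_smul]; exact add_mem hp hq
    | zero => intro c; rw [smul_zero, map_zero]; exact zero_mem _
    | add x y _ _ hx hy => intro c; rw [smul_add, map_add]; exact add_mem (hx c) (hy c)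
    | smul a x _ hx => intro c; rw [smul_smul]; exact hx _
  have := key m hm' 1
  rwa [one_smul, cmp_same ℳ hm] at this

theorem exists_generated [IsNoetherianRing S]
    (hgen : (HomogeneousIdeal.irrelevant 𝒜).toIdeal = Ideal.span (𝒜 1 : Set S))
    (hTF : ∃ k : ℕ, (Submodule.span S (⋃ i ∈ Set.Ici k, (ℳ i : Set M))).FG) :
    ∃ k : ℕ, ∀ e : ℕ,
      (⨆ a : 𝒜 e, (GrMod.smulSect 𝒜 ℳ a (k : ℤ)
        (op (⊤ : Opens (ProjectiveSpectrum.top 𝒜)))).range) = ⊤ := by
  obtain ⟨N, hN⟩ := GrTF.bijective 𝒜 ℳ hTF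
  obtain ⟨E, hNE, hE⟩ := mem_closure_smul 𝒜 ℳ hgen hTF N
  -- sections in high degrees come from elements
  have hsurj : ∀ (z : ℤ) (n : ℕ), z = n → N ≤ n → ∀ f : GrMod.sect 𝒜 ℳ z (op ⊤),
      ∃ m ∈ ℳ n, ∀ y, (f.1 y).1 = LocalizedModule.mk (m : M) 1 := by
    rintro z n rfl hn f
    obtain ⟨m, hm⟩ := (hN n hn).2 f
    exact ⟨m, m.2, fun y => (alpha_eq_iff 𝒜 ℳ m f).mp hm y.1⟩
  refine ⟨E, fun e => ?_⟩
  rw [eq_top_iff]
  intro s _
  obtain ⟨m, hm, hms⟩ := hsurj _ (E + e) (by push_cast; rfl) (by omega) s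
  have key : ∀ m ∈ AddSubmonoid.closure {p : M | ∃ a ∈ 𝒜 e, ∃ m₀ ∈ ℳ E, p = a • m₀},
      ∃ s ∈ (⨆ a : 𝒜 e, (GrMod.smulSect 𝒜 ℳ a (E : ℤ)
        (op (⊤ : Opens (ProjectiveSpectrum.top 𝒜)))).range), ∀ y, (s.1 y).1 = LocalizedModule.mk (m : M) 1 := by
    intro m hm
    induction hm using AddSubmonoid.closure_induction with
    | mem p hp =>
      obtain ⟨a, ha, m₀, hm₀, rfl⟩ := hp
      refine ⟨GrMod.smulSect 𝒜 ℳ ⟨a, ha⟩ (E : ℤ) _ (GrMod.globalOf 𝒜 ℳ ⟨m₀, hm₀⟩),
        AddSubgroup.mem_iSup_of_mem ⟨a, ha⟩ ⟨_, rfl⟩, fun y => ?_⟩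
      rw [GrMod.smulSect_apply_coe, GrMod.globalOf_apply_coe]
      exact (LocalizedModule.mk_smul_mk a m₀ 1 1).trans (by rw [one_mul])
    | zero =>
      exact ⟨0, zero_mem _, fun y => (LocalizedModule.zero_mk 1).symm⟩
    | add p q _ _ hp hq =>
      obtain ⟨s, hs, hsp⟩ := hp
      obtain ⟨t, ht, htq⟩ := hq
      refine ⟨s + t, add_mem hs ht, fun y => ?_⟩
      change (s.1 y).1 + (t.1 y).1 = _
      rw [hsp, htq, LocalizedModule.mk_add_mk]
      simp
  obtain ⟨s', hs', hms'⟩ := key m (hE e m hm)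
  have : s = s' := by
    apply Subtype.ext
    funext y
    apply Subtype.ext
    exact (hms y).trans (hms' y).symm
  rw [this]
  exact hs'

end Groth.Agent.Coherent.K46.GrGen

end
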