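import Groth.Agent.Coherent.K46.GrSecAlg

/-!
# `M_n → Γ(Proj S, M(n)~)` is bijective for large `n` 
-/

universe u

noncomputable section

open DirectSum CategoryTheory CategoryTheory.Limits AlgebraicGeometry TopologicalSpace Opposite TopCat

namespace Groth.Agent.Coherent.K46.GrSec

open GrSecAlg

variable {S M σ τ : Type u} [CommRing S] [SetLike σ S] [AddSubgroupClass σ S] (𝒜 : ℕ → σ) [GradedRing 𝒜]
variable [AddCommGroup M] [Module S M] [SetLike τ M] [AddSubgroupClass τ M] (ℳ : ℕ → τ)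

/-- A homogeneous ideal not contained in any relevant homogeneous prime avoiding `u` contains a power of `u * w`,
`w` of positive degree. -/
theorem exists_pow_mem {I : Ideal S} (hI : I.IsHomogeneous 𝒜) (u : S) {d : ℕ} (hd : 0 < d) {w : S} (hw : w ∈ 𝒜 d)
    (h : ∀ z : ProjectiveSpectrum 𝒜, u ∉ z.asHomogeneousIdeal → ∃ t ∈ I, t ∉ z.asHomogeneousIdeal) :
    ∃ k : ℕ, (u * w) ^ k ∈ I := by
  by_contra hc
  have h1 : u * w ∉ I.radical := fun h => hc h
  rw [hI.radical_eq, Submodule.mem_sInf] at h1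
  push Not at h1
  obtain ⟨J, ⟨hJ, hIJ, hJp⟩, huw⟩ := h1
  have hu : u ∉ J := fun h => huw (Ideal.mul_mem_right _ J h)
  have hwJ : w ∉ J := fun h => huw (Ideal.mul_mem_left J _ h)
  obtain ⟨t, ht, ht'⟩ := h ⟨⟨J, hJ⟩, hJp, fun hle => hwJ (hle (HomogeneousIdeal.mem_irrelevant_of_mem 𝒜 hd hw))⟩ hu
  exact ht' (hIJ ht)

theorem exists_homog_notMem (z : ProjectiveSpectrum 𝒜) : ∃ (d : ℕ) (_ : 0 < d) (w : S), w ∈ 𝒜 d ∧ w ∉ z.asHomogeneousIdeal := by
  by_contra hc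
  push Not at hc
  refine z.not_irrelevant_le ?_
  rw [HomogeneousIdeal.irrelevant_le]
  intro i hi x hx
  exact hc i hi x hx

variable [DirectSum.Decomposition ℳ] [SetLike.GradedSMul 𝒜 ℳ]

/-- The annihilator of a homogeneous element is homogeneous. -/
theorem isHomogeneous_ann {e : ℕ} {b : M} (hb : b ∈ ℳ e) :
    (LinearMap.ker (LinearMap.toSpanSingleton S M b)).IsHomogeneous 𝒜 := by
  intro i s hs
  rw [LinearMap.mem_ker, LinearMap.toSpanSingleton_apply] at hs ⊢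
  have h := cmp_smul_of_mem 𝒜 ℳ hb i s
  rw [hs, map_zero] at h
  exact h.symm

/-- If a homogeneous element vanishes in all localizations `M_z`, `u ∉ z`, it is killed by a power of `u * w`, `w` of
positive degree. -/
theorem exists_pow_smul_eq_zero {e : ℕ} {b : M} (hb : b ∈ ℳ e) (u : S) {d : ℕ} (hd : 0 < d) {w : S} (hw : w ∈ 𝒜 d)
    (h : ∀ z : ProjectiveSpectrum 𝒜, u ∉ z.asHomogeneousIdeal → ∃ t ∉ z.asHomogeneousIdeal, t • b = 0) :
    ∃ k : ℕ, (u * w) ^ k • b = 0 := by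
  obtain ⟨k, hk⟩ := exists_pow_mem 𝒜 (isHomogeneous_ann 𝒜 ℳ hb) u hd hw (fun z hz => by
    obtain ⟨t, ht, htb⟩ := h z hz
    exact ⟨t, by simpa using htb, ht⟩)
  exact ⟨k, by simpa using hk⟩

section Section

variable {n : ℕ} (f : GrMod.sect 𝒜 ℳ (n : ℤ) (op ⊤))

/-- The value of the section `f` at a point of `Proj`, in the localized module. -/
def val (z : ProjectiveSpectrum 𝒜) : GrMod.LocMod 𝒜 (M := M) z :=
  ((f.1 ⟨z, trivial⟩ : GrMod.tildeAt 𝒜 ℳ (n : ℤ) z) : GrMod.LocMod 𝒜 (M := M) z)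

/-- Homogeneous `h` such that `h f` is the section given by an element of `M`. -/
def good (d : ℕ) (h : S) : Prop :=
  h ∈ 𝒜 d ∧ ∃ m ∈ ℳ (n + d), ∀ z : ProjectiveSpectrum 𝒜,
    h • val 𝒜 ℳ f z = LocalizedModule.mk m 1

omit [Decomposition ℳ] in
theorem good_zero (d : ℕ) : good 𝒜 ℳ f d 0 :=
  ⟨zero_mem _, 0, zero_mem _, fun z => by simp⟩

omit [Decomposition ℳ] in
theorem good_add {d : ℕ} {h h' : S} (H : good 𝒜 ℳ f d h) (H' : good 𝒜 ℳ f d h') : good 𝒜 ℳ f d (h + h') := by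
  obtain ⟨h1, m, hm, hz⟩ := H
  obtain ⟨h1', m', hm', hz'⟩ := H'
  refine ⟨add_mem h1 h1', m + m', add_mem hm hm', fun z => ?_⟩
  rw [add_smul, hz, hz', LocalizedModule.mk_add_mk]
  simp

omit [Decomposition ℳ] in
theorem good_mul {d e : ℕ} {h c : S} (H : good 𝒜 ℳ f d h) (hc : c ∈ 𝒜 e) : good 𝒜 ℳ f (e + d) (c * h) := by
  obtain ⟨h1, m, hm, hz⟩ := H
  refine ⟨SetLike.mul_mem_graded hc h1, c • m, ?_, fun z => ?_⟩
  · rw [show n + (e + d) = e + (n + d) by omega]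
    exact SetLike.GradedSMul.smul_mem hc hm
  · rw [mul_smul, hz, LocalizedModule.smul'_mk]

omit [Decomposition ℳ] in
theorem good_of_mem_span {y : S} (hy : y ∈ Ideal.span {h | ∃ d, good 𝒜 ℳ f d h}) (d : ℕ) (hd : y ∈ 𝒜 d) :
    good 𝒜 ℳ f d y := by
  have key : ∀ y ∈ Ideal.span {h | ∃ d, good 𝒜 ℳ f d h}, ∀ (c : S) (d : ℕ), good 𝒜 ℳ f d (cmp 𝒜 d (c * y)) := by
    intro y hy
    induction hy using Submodule.span_induction with
    | mem h hh =>
      obtain ⟨e, he⟩ := hh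
      intro c d
      by_cases hde : e ≤ d
      · obtain ⟨k, rfl⟩ := Nat.exists_eq_add_of_le' hde
        rw [← smul_eq_mul, cmp_smul_of_mem 𝒜 𝒜 he.1, smul_eq_mul]
        exact good_mul 𝒜 ℳ f he (cmp_mem 𝒜 k c)
      · rw [← smul_eq_mul, cmp_smul_of_mem_lt 𝒜 𝒜 he.1 (by omega)]
        exact good_zero 𝒜 ℳ f d
    | zero => intro c d; simpa using good_zero 𝒜 ℳ f d
    | add x y _ _ hx hy =>
      intro c d
      rw [mul_add, map_add]
      exact good_add 𝒜 ℳ f (hx c d) (hy c d)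
    | smul a x _ hx =>
      intro c d
      rw [smul_eq_mul, ← mul_assoc]
      exact hx _ d
  have := key y hy 1 d
  rwa [one_mul, cmp_same 𝒜 hd] at this

variable {𝒜 ℳ} in
omit [Decomposition ℳ] in
/-- Local description of sections at a point. -/
theorem exists_local (z : ProjectiveSpectrum 𝒜) :
    ∃ (t : S) (j e : ℕ) (a : M) (s : S), t ∈ 𝒜 e ∧ s ∈ 𝒜 j ∧ a ∈ ℳ (n + j) ∧ t ∉ z.asHomogeneousIdeal ∧
      (∀ y : ProjectiveSpectrum 𝒜, t ∉ y.asHomogeneousIdeal → s ∉ y.asHomogeneousIdeal) ∧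
      ∀ y : ProjectiveSpectrum 𝒜, t ∉ y.asHomogeneousIdeal → s • val 𝒜 ℳ f y = LocalizedModule.mk a 1 := by
  obtain ⟨V, hzV, i, i', j, ⟨a, ha⟩, ⟨s, hs⟩, nin, hdeg, w⟩ := f.2 ⟨z, trivial⟩
  obtain ⟨_, ⟨r, rfl⟩, hzr, hrV⟩ := (ProjectiveSpectrum.isTopologicalBasis_basic_opens 𝒜).exists_subset_of_mem_open
    hzV V.isOpen
  have hzr' : r ∉ z.asHomogeneousIdeal := hzr
  -- a homogeneous component of `r`
  obtain ⟨e, he⟩ : ∃ e, cmp 𝒜 e r ∉ z.asHomogeneousIdeal := by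
    by_contra hc
    push Not at hc
    apply hzr'
    classical
    rw [← DirectSum.sum_support_decompose 𝒜 r]
    exact z.asHomogeneousIdeal.toIdeal.sum_mem fun i _ => hc i
  have hsub : ∀ y : ProjectiveSpectrum 𝒜, cmp 𝒜 e r ∉ y.asHomogeneousIdeal → y ∈ V := fun y hy =>
    hrV (show r ∉ y.asHomogeneousIdeal from fun hr => hy (y.asHomogeneousIdeal.isHomogeneous e hr))
  have ha' : a ∈ ℳ (n + j) := by
    rcases hdeg with h | h
    · have : i' = n + j := by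
        have h' : (i' : ℤ) = j + n := h
        omega
      exact this ▸ ha
    · have h' : a = 0 := h
      rw [h']
      exact zero_mem _
  refine ⟨cmp 𝒜 e r, j, e, a, s, cmp_mem 𝒜 e r, hs, ha', he, fun y hy => nin ⟨y, hsub y hy⟩, fun y hy => ?_⟩
  have h2 : val 𝒜 ℳ f y = LocalizedModule.mk a ⟨s, nin ⟨y, hsub y hy⟩⟩ := w ⟨y, hsub y hy⟩
  rw [h2, LocalizedModule.smul'_mk]
  exact LocalizedModule.mk_cancel (⟨s, nin ⟨y, hsub y hy⟩⟩ : y.asHomogeneousIdeal.toIdeal.primeCompl) a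

theorem exists_good [IsNoetherian S M] (z : ProjectiveSpectrum 𝒜) :
    ∃ (d : ℕ) (h : S), good 𝒜 ℳ f d h ∧ h ∉ z.asHomogeneousIdeal := by
  obtain ⟨t, j, e, a, s, ht, hs, ha, htz, hst, hval⟩ := exists_local f z
  obtain ⟨K, hK⟩ := uniform_exponent_tors (fun _ : Unit => t) (⊥ : Submodule S M)
  have htK : t ^ K ∈ 𝒜 (K * e) := by simpa using SetLike.pow_mem_graded K ht
  refine ⟨K * e + j, t ^ K * s, ⟨SetLike.mul_mem_graded htK hs, t ^ K • a, ?_, fun y => ?_⟩, ?_⟩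
  · rw [show n + (K * e + j) = K * e + (n + j) by omega]
    exact SetLike.GradedSMul.smul_mem htK ha
  · obtain ⟨t', j', e', a', s', ht', hs', ha', hty', hst', hval'⟩ := exists_local f y
    obtain ⟨d, hd, w, hw, hwy⟩ := exists_homog_notMem 𝒜 y
    have hb : s • a' - s' • a ∈ ℳ (n + j + j') := by
      refine sub_mem ?_ ?_
      · rw [show n + j + j' = j + (n + j') by omega]
        exact SetLike.GradedSMul.smul_mem hs ha'
      · rw [show n + j + j' = j' + (n + j) by omega]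
        exact SetLike.GradedSMul.smul_mem hs' ha
    obtain ⟨k, hk⟩ := exists_pow_smul_eq_zero 𝒜 ℳ hb (t * t') hd hw (fun x hx => by
      have hx1 : t ∉ x.asHomogeneousIdeal := fun h => hx (x.asHomogeneousIdeal.toIdeal.mul_mem_right _ h)
      have hx2 : t' ∉ x.asHomogeneousIdeal := fun h => hx (x.asHomogeneousIdeal.toIdeal.mul_mem_left _ h)
      have h1 : s • (LocalizedModule.mk a' 1 : GrMod.LocMod 𝒜 (M := M) x) = s' • LocalizedModule.mk a 1 := by
        rw [← hval x hx1, ← hval' x hx2, smul_smul, smul_smul, mul_comm]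
      rw [LocalizedModule.smul'_mk, LocalizedModule.smul'_mk, LocalizedModule.mk_eq] at h1
      obtain ⟨c, hc⟩ := h1
      refine ⟨c, c.2, ?_⟩
      rw [smul_sub, sub_eq_zero]
      simpa [Submonoid.smul_def] using hc)
    -- `(t' w)^k` kills `t^K (s a' - s' a)`
    have h2 : (t' * w) ^ k • t ^ K • (s • a' - s' • a) = 0 := by
      rw [smul_comm, ← Submodule.mem_bot S]
      refine hK () _ fun _ => ⟨k, ?_⟩
      rw [Submodule.mem_bot, smul_smul, ← mul_pow, ← mul_assoc, hk]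
    have h3 : (t' * w) ^ k ∉ y.asHomogeneousIdeal := fun h =>
      ((y.isPrime.mem_or_mem (y.isPrime.mem_of_pow_mem k h)).elim hty' hwy)
    have h4 : s' ∉ y.asHomogeneousIdeal := hst' y hty'
    -- conclude in `M_y`
    have h5 : s' • ((t ^ K * s) • val 𝒜 ℳ f y) = s' • (LocalizedModule.mk (t ^ K • a) 1 : GrMod.LocMod 𝒜 (M := M) y) := by
      rw [smul_comm, hval' y hty', LocalizedModule.smul'_mk, LocalizedModule.smul'_mk, LocalizedModule.mk_eq]
      refine ⟨⟨_, h3⟩, ?_⟩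
      rw [smul_sub, smul_sub, sub_eq_zero] at h2
      simp only [Submonoid.smul_def, one_smul]
      rw [mul_smul, h2, smul_comm (t ^ K) s' a]
    exact IsLocalizedModule.smul_injective (LocalizedModule.mkLinearMap y.asHomogeneousIdeal.toIdeal.primeCompl M)
      (⟨s', h4⟩ : y.asHomogeneousIdeal.toIdeal.primeCompl) h5
  · intro h
    rcases z.isPrime.mem_or_mem h with h | h
    · exact htz (z.isPrime.mem_of_pow_mem K h)
    · exact hst z htz h

end Section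

variable {ι : Type} [Finite ι] (g : ι → S)
  (hD : ∀ K : ℕ, ∃ D : ℕ, ∀ d, D ≤ d → ∀ s ∈ 𝒜 d, s ∈ Ideal.span (Set.range fun i => g i ^ K))
  {d₀ : ℕ} (hd₀ : 0 < d₀) (hg : ∀ i, g i ∈ 𝒜 d₀)

omit [Finite ι] in
include hD in
theorem exists_gen_notMem (z : ProjectiveSpectrum 𝒜) : ∃ i, g i ∉ z.asHomogeneousIdeal := by
  by_contra hc
  push Not at hc
  obtain ⟨d, hd, w, hw, hwz⟩ := exists_homog_notMem 𝒜 z
  obtain ⟨D, hD⟩ := hD 1
  have h1 : w ^ D ∈ 𝒜 (D * d) := by simpa using SetLike.pow_mem_graded D hw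
  have h2 := hD _ (Nat.le_mul_of_pos_right D hd) _ h1
  have h3 : Ideal.span (Set.range fun i => g i ^ 1) ≤ z.asHomogeneousIdeal.toIdeal := by
    rw [Ideal.span_le]
    rintro _ ⟨i, rfl⟩
    simpa using hc i
  exact hwz (z.isPrime.mem_of_pow_mem D (h3 h2))

include hD hd₀ hg in
/-- Surjectivity of `M_n → Γ(Proj, M(n)~)` for large `n`. -/
theorem surjective [IsNoetherianRing S] [IsNoetherian S M] : ∃ n₀ : ℕ, ∀ n : ℕ, n₀ ≤ n →
    ∀ f : GrMod.sect 𝒜 ℳ (n : ℤ) (op ⊤), ∃ m ∈ ℳ n, ∀ z, val 𝒜 ℳ f z = LocalizedModule.mk m 1 := by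
  obtain ⟨n₀, hn₀⟩ := h1_top 𝒜 ℳ g hD hg
  have : Fintype ι := Fintype.ofFinite ι
  refine ⟨n₀, fun n hn f => ?_⟩
  have hpow : ∀ (i : ι) (e : ℕ), g i ^ e ∈ 𝒜 (e * d₀) := fun i e => by
    simpa using SetLike.pow_mem_graded e (hg i)
  -- powers of the generators are good
  have h1 : ∀ i, ∃ K : ℕ, g i ^ K ∈ Ideal.span {h | ∃ d, good 𝒜 ℳ f d h} := by
    intro i
    have := exists_pow_mem 𝒜 (I := Ideal.span {h | ∃ d, good 𝒜 ℳ f d h})
      (Ideal.homogeneous_span 𝒜 _ (by rintro x ⟨d, hd⟩; exact ⟨d, hd.1⟩)) 1 hd₀ (hg i) (fun z _ => by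
        obtain ⟨d, h, hh, hz⟩ := exists_good 𝒜 ℳ f z
        exact ⟨h, Ideal.subset_span ⟨d, hh⟩, hz⟩)
    simpa using this
  choose K' hK' using h1
  set K := Finset.univ.sup K' with hKdef
  have h2 : ∀ i, good 𝒜 ℳ f (K * d₀) (g i ^ K) := by
    intro i
    obtain ⟨c, hc⟩ := Nat.exists_eq_add_of_le (Finset.le_sup (f := K') (Finset.mem_univ i))
    refine good_of_mem_span 𝒜 ℳ f ?_ (K * d₀) (hpow i K)
    rw [hKdef, hc, pow_add]
    exact Ideal.mul_mem_right _ _ (hK' i)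
  choose _ m hm hmf using h2
  -- the compatibility up to torsion
  have h3 : ∀ i j, g j ^ K • m i - g i ^ K • m j ∈ tors g (⊥ : Submodule S M) := by
    intro i j l
    have hb : g j ^ K • m i - g i ^ K • m j ∈ ℳ (K * d₀ + (n + K * d₀)) := by
      refine sub_mem ?_ ?_
      · exact SetLike.GradedSMul.smul_mem (hpow j K) (hm i)
      · exact SetLike.GradedSMul.smul_mem (hpow i K) (hm j)
    obtain ⟨k, hk⟩ := exists_pow_smul_eq_zero 𝒜 ℳ hb 1 hd₀ (hg l) (fun z _ => by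
      have e : g j ^ K • (LocalizedModule.mk (m i) 1 : GrMod.LocMod 𝒜 (M := M) z) =
          g i ^ K • LocalizedModule.mk (m j) 1 := by
        rw [← hmf, ← hmf, smul_smul, smul_smul, mul_comm]
      rw [LocalizedModule.smul'_mk, LocalizedModule.smul'_mk, LocalizedModule.mk_eq] at e
      obtain ⟨c, hc⟩ := e
      refine ⟨c, c.2, ?_⟩
      rw [smul_sub, sub_eq_zero]
      simpa [Submonoid.smul_def] using hc)
    exact ⟨k, by simpa using hk⟩
  obtain ⟨L, hL⟩ := uniform_exponent_tors g (⊥ : Submodule S M)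
  obtain ⟨m₀, hm₀, -, l, hl⟩ := hn₀ n hn (K + L) (fun i => g i ^ L • m i)
    (fun i => by
      rw [show n + (K + L) * d₀ = L * d₀ + (n + K * d₀) by ring]
      exact SetLike.GradedSMul.smul_mem (hpow i L) (hm i))
    (fun _ => trivial)
    (fun i j => by
      have e : g j ^ (K + L) • g i ^ L • m i - g i ^ (K + L) • g j ^ L • m j =
          g j ^ L • g i ^ L • (g j ^ K • m i - g i ^ K • m j) := by
        simp only [smul_sub, smul_smul]
        congr 2 <;> ring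
      rw [e]
      exact Submodule.smul_mem _ _ (hL i _ (h3 i j)))
  refine ⟨m₀, hm₀, fun z => ?_⟩
  obtain ⟨i, hi⟩ := exists_gen_notMem 𝒜 g hD z
  have hi' : g i ^ (l + (K + L)) ∉ z.asHomogeneousIdeal := fun h => hi (z.isPrime.mem_of_pow_mem _ h)
  refine IsLocalizedModule.smul_injective (LocalizedModule.mkLinearMap z.asHomogeneousIdeal.toIdeal.primeCompl M)
    (⟨_, hi'⟩ : z.asHomogeneousIdeal.toIdeal.primeCompl) ?_
  change g i ^ (l + (K + L)) • val 𝒜 ℳ f z = g i ^ (l + (K + L)) • LocalizedModule.mk m₀ 1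
  have h4 := hl i
  rw [Submodule.mem_bot, smul_sub, sub_eq_zero] at h4
  rw [LocalizedModule.smul'_mk, show g i ^ (l + (K + L)) • m₀ = g i ^ l • g i ^ L • m i by
      rw [pow_add, mul_smul, h4], show l + (K + L) = (l + L) + K by ring,
    pow_add (g i) (l + L), mul_smul, hmf, LocalizedModule.smul'_mk, smul_smul, ← pow_add]

/-- **the reference**: for `S` Noetherian graded and `g i` finitely many elements of degree one such that high degree
elements lie in the ideal of the `K`-th powers of the `g i`, and `M` finite graded: `M_n → Γ(Proj S, M(n)~)` is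
bijective for all large `n`. -/
theorem bijective [IsNoetherianRing S] [IsNoetherian S M]
    (hD : ∀ K : ℕ, ∃ D : ℕ, ∀ d, D ≤ d → ∀ s ∈ 𝒜 d, s ∈ Ideal.span (Set.range fun i => g i ^ K))
    {d₀ : ℕ} (hd₀ : 0 < d₀) (hg : ∀ i, g i ∈ 𝒜 d₀) :
    ∃ n₀ : ℕ, ∀ n : ℕ, n₀ ≤ n → Function.Bijective (fun m : ℳ n => GrMod.globalOf 𝒜 ℳ m) := by
  obtain ⟨n₀, hn₀⟩ := surjective 𝒜 ℳ g hD hd₀ hg
  obtain ⟨n₁, hn₁⟩ := h0 𝒜 ℳ g hD (⊥ : Submodule S M)
  refine ⟨max n₀ n₁, fun n hn => ⟨?_, ?_⟩⟩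
  · intro a b hab
    have h1 : ∀ z : ProjectiveSpectrum 𝒜, (LocalizedModule.mk a.1 1 : GrMod.LocMod 𝒜 (M := M) z) =
        LocalizedModule.mk b.1 1 := fun z =>
      congrArg (fun f : GrMod.sect 𝒜 ℳ (n : ℤ) (op ⊤) => val 𝒜 ℳ f z) hab
    have h2 : a.1 - b.1 ∈ tors g (⊥ : Submodule S M) := by
      intro l
      obtain ⟨k, hk⟩ := exists_pow_smul_eq_zero 𝒜 ℳ (sub_mem a.2 b.2) 1 hd₀ (hg l) (fun z _ => by
        have e := h1 z
        rw [LocalizedModule.mk_eq] at e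
        obtain ⟨c, hc⟩ := e
        refine ⟨c, c.2, ?_⟩
        rw [smul_sub, sub_eq_zero]
        simpa [Submonoid.smul_def] using hc)
      exact ⟨k, by simpa using hk⟩
    have h3 := hn₁ n (by omega) _ (sub_mem a.2 b.2) h2
    rw [Submodule.mem_bot, sub_eq_zero] at h3
    exact Subtype.ext h3
  · intro f
    obtain ⟨m, hm, hmf⟩ := hn₀ n (by omega) f
    refine ⟨⟨m, hm⟩, ?_⟩
    apply Subtype.ext
    funext x
    apply Subtype.ext
    exact (hmf x.1).symm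

end Groth.Agent.Coherent.K46.GrSec

end
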