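import Groth.Prelude.Def_GrMod3

/-!
# Graded modules: local cohomology `H^0`, `H^1` in high degrees by hand, for gradings by additive subgroups

Port of `Groth.Agent.Ega3B.GrSecAlg` to gradings `𝒜 : ℕ → σ` by any family of additive subgroups, and to elements
`g : ι → S` all of the same degree `d₀` (any positive degree).  All statements are relative to submodules `N ≤ N'` of `M`.
-/

universe u

noncomputable section

open DirectSum

namespace Groth.Agent.Coherent.K46.GrSecAlg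

variable {S M σ τ : Type u} [CommRing S] [SetLike σ S] [AddSubgroupClass σ S] (𝒜 : ℕ → σ) [GradedRing 𝒜]
variable [AddCommGroup M] [Module S M] [SetLike τ M] [AddSubgroupClass τ M] (ℳ : ℕ → τ) [DirectSum.Decomposition ℳ]

/-- The degree `n` component of an element of a graded module, as an additive map `M → M`. -/
def cmp (n : ℕ) : M →+ M where
  toFun x := (decompose ℳ x n : M)
  map_zero' := by simp
  map_add' x y := by simp

theorem cmp_mem (n : ℕ) (x : M) : cmp ℳ n x ∈ ℳ n := (decompose ℳ x n).2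

theorem cmp_same {n : ℕ} {x : M} (h : x ∈ ℳ n) : cmp ℳ n x = x := decompose_of_mem_same ℳ h

theorem cmp_ne {n m : ℕ} {x : M} (h : x ∈ ℳ m) (hne : m ≠ n) : cmp ℳ n x = 0 := decompose_of_mem_ne ℳ h hne

variable [SetLike.GradedSMul 𝒜 ℳ]

omit [GradedRing 𝒜] [AddSubgroupClass σ S] in
include 𝒜 in
theorem cmp_smul_hom {d : ℕ} {s : S} (hs : s ∈ 𝒜 d) (n : ℕ) (x : M) :
    cmp ℳ (d + n) (s • x) = s • cmp ℳ n x := by
  induction x using Decomposition.inductionOn (ℳ := ℳ) with
  | zero => simp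
  | @homogeneous i m =>
    have h1 : s • (m : M) ∈ ℳ (d + i) := SetLike.GradedSMul.smul_mem hs m.2
    by_cases h : i = n
    · subst h
      rw [cmp_same ℳ h1, cmp_same ℳ m.2]
    · rw [cmp_ne ℳ h1 (by omega), cmp_ne ℳ m.2 h, smul_zero]
  | add x y hx hy => rw [smul_add, map_add, map_add, smul_add, hx, hy]

omit [GradedRing 𝒜] [AddSubgroupClass σ S] in
include 𝒜 in
theorem cmp_smul_hom_lt {d : ℕ} {s : S} (hs : s ∈ 𝒜 d) {n : ℕ} (hn : n < d) (x : M) :
    cmp ℳ n (s • x) = 0 := by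
  induction x using Decomposition.inductionOn (ℳ := ℳ) with
  | zero => simp
  | @homogeneous i m =>
    have h1 : s • (m : M) ∈ ℳ (d + i) := SetLike.GradedSMul.smul_mem hs m.2
    rw [cmp_ne ℳ h1 (by omega)]
  | add x y hx hy => rw [smul_add, map_add, hx, hy, add_zero]

theorem cmp_smul_of_mem {e : ℕ} {x : M} (hx : x ∈ ℳ e) (d : ℕ) (s : S) :
    cmp ℳ (d + e) (s • x) = cmp 𝒜 d s • x := by
  induction s using Decomposition.inductionOn (ℳ := 𝒜) with
  | zero => simp
  | @homogeneous i m =>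
    have h1 : (m : S) • x ∈ ℳ (i + e) := SetLike.GradedSMul.smul_mem m.2 hx
    by_cases h : i = d
    · subst h
      rw [cmp_same ℳ h1, cmp_same 𝒜 m.2]
    · rw [cmp_ne ℳ h1 (by omega), cmp_ne 𝒜 m.2 h, zero_smul]
  | add x y hx hy => rw [add_smul, map_add, map_add, add_smul, hx, hy]

include 𝒜 in
theorem cmp_smul_of_mem_lt {e : ℕ} {x : M} (hx : x ∈ ℳ e) {n : ℕ} (hn : n < e) (s : S) :
    cmp ℳ n (s • x) = 0 := by
  induction s using Decomposition.inductionOn (ℳ := 𝒜) with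
  | zero => simp
  | @homogeneous i m =>
    have h1 : (m : S) • x ∈ ℳ (i + e) := SetLike.GradedSMul.smul_mem m.2 hx
    rw [cmp_ne ℳ h1 (by omega)]
  | add x y hx hy => rw [add_smul, map_add, hx, hy, add_zero]

/-- `N` is a homogeneous submodule. -/
def IsHom (N : Submodule S M) : Prop := ∀ x ∈ N, ∀ n, cmp ℳ n x ∈ N

variable {ι : Type} [Finite ι] (g : ι → S)

/-- Elements killed (mod `N`) by a power of every `g i`. -/
def tors (N : Submodule S M) : Submodule S M where
  carrier := {x | ∀ i, ∃ k : ℕ, g i ^ k • x ∈ N}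
  zero_mem' := fun i => ⟨0, by simp⟩
  add_mem' := by
    rintro x y hx hy i
    obtain ⟨k, hk⟩ := hx i
    obtain ⟨l, hl⟩ := hy i
    refine ⟨k + l, ?_⟩
    rw [smul_add]
    refine add_mem ?_ ?_
    · rw [add_comm k l, pow_add, mul_smul]
      exact N.smul_mem _ hk
    · rw [pow_add, mul_smul]
      exact N.smul_mem _ hl
  smul_mem' := by
    rintro c x hx i
    obtain ⟨k, hk⟩ := hx i
    refine ⟨k, ?_⟩
    rw [smul_comm]
    exact N.smul_mem _ hk

omit [Finite ι] in
theorem uniform_exponent [IsNoetherian S M] (N L : Submodule S M) (a : S)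
    (h : ∀ x ∈ L, ∃ k : ℕ, a ^ k • x ∈ N) : ∃ k : ℕ, ∀ x ∈ L, a ^ k • x ∈ N := by
  obtain ⟨T, hT⟩ := IsNoetherian.noetherian L
  choose! k hk using h
  refine ⟨T.sup k, fun x hx => ?_⟩
  rw [← hT] at hx
  induction hx using Submodule.span_induction with
  | mem x hx =>
    obtain ⟨c, hc⟩ := Nat.exists_eq_add_of_le (Finset.le_sup (f := k) (show x ∈ T from hx))
    rw [hc, add_comm, pow_add, mul_smul]
    exact N.smul_mem _ (hk x (hT ▸ Submodule.subset_span hx))
  | zero => simp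
  | add x y _ _ hx hy => rw [smul_add]; exact add_mem hx hy
  | smul c x _ hx => rw [smul_comm]; exact N.smul_mem _ hx

theorem uniform_exponent_tors [IsNoetherian S M] (N : Submodule S M) :
    ∃ k : ℕ, ∀ i, ∀ x ∈ tors g N, g i ^ k • x ∈ N := by
  have : Fintype ι := Fintype.ofFinite ι
  have h := fun i => uniform_exponent N (tors g N) (g i) (fun x hx => hx i)
  choose k hk using h
  refine ⟨Finset.univ.sup k, fun i x hx => ?_⟩
  obtain ⟨c, hc⟩ := Nat.exists_eq_add_of_le (Finset.le_sup (f := k) (Finset.mem_univ i))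
  rw [hc, add_comm, pow_add, mul_smul]
  exact N.smul_mem _ (hk i x hx)

/-- `H^0` vanishes in high degrees. -/
def H0 (N : Submodule S M) : Prop := ∃ n₀ : ℕ, ∀ n, n₀ ≤ n → ∀ m ∈ ℳ n, m ∈ tors g N → m ∈ N

/-- `H^1` of `N' / N` vanishes in high degrees (`d₀` is the common degree of the `g i`). -/
def H1 (d₀ : ℕ) (N' N : Submodule S M) : Prop := ∃ n₀ : ℕ, ∀ n, n₀ ≤ n → ∀ (k : ℕ) (v : ι → M),
  (∀ i, v i ∈ ℳ (n + k * d₀)) → (∀ i, v i ∈ N') → (∀ i j, g j ^ k • v i - g i ^ k • v j ∈ N) →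
    ∃ m ∈ ℳ n, m ∈ N' ∧ ∃ l : ℕ, ∀ i, g i ^ l • (g i ^ k • m - v i) ∈ N

variable [IsNoetherian S M] (hD : ∀ K : ℕ, ∃ D : ℕ, ∀ d, D ≤ d → ∀ s ∈ 𝒜 d, s ∈ Ideal.span (Set.range fun i => g i ^ K))

include hD in
theorem h0 (N : Submodule S M) : H0 ℳ g N := by
  -- the submodules generated by torsion elements of degree `≤ E`
  let L : ℕ →o Submodule S M :=
    ⟨fun E => Submodule.span S {x | ∃ e ≤ E, x ∈ ℳ e ∧ x ∈ tors g N}, fun E E' hE =>
      Submodule.span_mono fun x ⟨e, he, h⟩ => ⟨e, he.trans hE, h⟩⟩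
  obtain ⟨E, hE⟩ := monotone_stabilizes_iff_noetherian.mpr (inferInstance : IsNoetherian S M) L
  obtain ⟨K, hK⟩ := uniform_exponent_tors g N
  obtain ⟨D, hD'⟩ := hD K
  have hLT : L E ≤ tors g N := Submodule.span_le.mpr fun x ⟨e, he, h⟩ => h.2
  refine ⟨E + D, fun n hn m hm hmt => ?_⟩
  have hmL : m ∈ L E := by
    rw [hE n (by omega)]
    exact Submodule.subset_span ⟨n, le_rfl, hm, hmt⟩
  have key : ∀ x ∈ L E, ∀ s : S, ∀ n, E + D ≤ n → cmp ℳ n (s • x) ∈ N := by
    intro x hx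
    change x ∈ Submodule.span S _ at hx
    induction hx using Submodule.span_induction with
    | mem x hx =>
      obtain ⟨e, he, hxe, hxt⟩ := hx
      intro s n hn
      obtain ⟨d, rfl⟩ := Nat.exists_eq_add_of_le' (show e ≤ n by omega)
      rw [cmp_smul_of_mem 𝒜 ℳ hxe]
      have h1 := hD' d (by omega) _ (cmp_mem 𝒜 d s)
      have h2 : ∀ c ∈ Ideal.span (Set.range fun i => g i ^ K), c • x ∈ N := by
        intro c hc
        induction hc using Submodule.span_induction with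
        | mem c hc =>
          obtain ⟨i, rfl⟩ := hc
          exact hK i x hxt
        | zero => simp
        | add a b _ _ ha hb => rw [add_smul]; exact add_mem ha hb
        | smul a b _ hb => rw [smul_assoc]; exact N.smul_mem _ hb
      exact h2 _ h1
    | zero => intro s n _; simp
    | add x y _ _ hx hy =>
      intro s n hn
      rw [smul_add, map_add]
      exact add_mem (hx s n hn) (hy s n hn)
    | smul c x _ hx =>
      intro s n hn
      rw [smul_smul]
      exact hx _ n hn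
  have := key m hmL 1 n hn
  rwa [one_smul, cmp_same ℳ hm] at this

variable {d₀ : ℕ} (hg : ∀ i, g i ∈ 𝒜 d₀)

include hD hg in
/-- `H^1` vanishes in high degrees if some `g a` is a nonzerodivisor. -/
theorem h1_of_nzd (N' N : Submodule S M) (hN : IsHom ℳ N) (hN' : IsHom ℳ N') (a : ι)
    (ha : ∀ x ∈ N', g a • x ∈ N → x ∈ N) : H1 ℳ g d₀ N' N := by
  obtain ⟨n₀, hn₀⟩ := h0 𝒜 ℳ g hD (N ⊔ N'.map (LinearMap.lsmul S M (g a)))
  refine ⟨n₀, fun n hn k v hv hvN' hcomp => ?_⟩
  have key : ∀ j, j ≤ k → ∃ m ∈ ℳ (n + (k - j) * d₀), m ∈ N' ∧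
      ∀ i, g i ^ k • m - g a ^ (k - j) • v i ∈ N := by
    intro j
    induction j with
    | zero => exact fun _ => ⟨v a, hv a, hvN' a, fun i => hcomp a i⟩
    | succ j ih =>
      intro hj
      obtain ⟨m, hm, hmN', hmi⟩ := ih (by omega)
      have hmL : m ∈ N ⊔ N'.map (LinearMap.lsmul S M (g a)) := by
        refine hn₀ _ (le_trans hn (Nat.le_add_right _ _)) m hm fun i => ⟨k, ?_⟩
        have e : g i ^ k • m = (g i ^ k • m - g a ^ (k - j) • v i) + g a ^ (k - j) • v i := by abel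
        rw [e]
        refine Submodule.add_mem_sup (hmi i) ⟨g a ^ (k - (j + 1)) • v i, N'.smul_mem _ (hvN' i), ?_⟩
        rw [LinearMap.lsmul_apply, smul_smul, ← pow_succ']
        congr 2
        omega
      obtain ⟨x, hx, w, ⟨y, hy, rfl⟩, hxy⟩ := Submodule.mem_sup.mp hmL
      rw [LinearMap.lsmul_apply] at hxy
      have h1 : n + (k - j) * d₀ = d₀ + (n + (k - (j + 1)) * d₀) := by
        obtain ⟨c, rfl⟩ := Nat.exists_eq_add_of_le hj
        rw [show j + 1 + c - j = c + 1 by omega, show j + 1 + c - (j + 1) = c by omega]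
        ring
      have hm' : m = cmp ℳ (n + (k - j) * d₀) x + g a • cmp ℳ (n + (k - (j + 1)) * d₀) y := by
        rw [← cmp_smul_hom 𝒜 ℳ (hg a), ← h1, ← map_add, hxy, cmp_same ℳ hm]
      refine ⟨cmp ℳ (n + (k - (j + 1)) * d₀) y, cmp_mem ℳ _ y, hN' y hy _, fun i => ?_⟩
      refine ha _ (sub_mem (N'.smul_mem _ (hN' y hy _)) (N'.smul_mem _ (hvN' i))) ?_
      have h2 : g a • (g i ^ k • cmp ℳ (n + (k - (j + 1)) * d₀) y - g a ^ (k - (j + 1)) • v i) =
          (g i ^ k • m - g a ^ (k - j) • v i) - g i ^ k • cmp ℳ (n + (k - j) * d₀) x := by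
        rw [hm', smul_add, smul_sub, smul_smul (g a) (g a ^ _), ← pow_succ',
          show k - (j + 1) + 1 = k - j by omega, smul_comm (g a) (g i ^ k)]
        abel
      rw [h2]
      exact sub_mem (hmi i) (N.smul_mem _ (hN x hx _))
  obtain ⟨m, hm, hmN', hmi⟩ := key k le_rfl
  simp only [Nat.sub_self, pow_zero, one_smul, zero_mul, add_zero] at hm hmi
  exact ⟨m, hm, hmN', 0, fun i => by simpa using hmi i⟩

include hg in
omit [IsNoetherian S M] [Decomposition ℳ] [Finite ι] in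
/-- Devissage for `H^1`. -/
theorem h1_trans (N'' N' N : Submodule S M) (hle : N ≤ N') (hle' : N' ≤ N'')
    (h : H1 ℳ g d₀ N' N) (h' : H1 ℳ g d₀ N'' N') : H1 ℳ g d₀ N'' N := by
  obtain ⟨n₀, h⟩ := h
  obtain ⟨n₁, h'⟩ := h'
  refine ⟨max n₀ n₁, fun n hn k v hv hvN'' hcomp => ?_⟩
  obtain ⟨m1, hm1, hm1N, l, hl⟩ := h' n (by omega) k v hv hvN'' (fun i j => hle (hcomp i j))
  have hpow : ∀ (i : ι) (e : ℕ), g i ^ e ∈ 𝒜 (e * d₀) := fun i e => by
    simpa using SetLike.pow_mem_graded e (hg i)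
  have hmem : ∀ (i : ι) (e f : ℕ) (x : M), x ∈ ℳ f → g i ^ e • x ∈ ℳ (f + e * d₀) := fun i e f x hx => by
    rw [add_comm]
    exact SetLike.GradedSMul.smul_mem (hpow i e) hx
  obtain ⟨m2, hm2, hm2N, l', hl'⟩ := h n (by omega) (k + l) (fun i => g i ^ l • (v i - g i ^ k • m1))
    (fun i => by
      rw [add_mul, ← add_assoc]
      exact hmem i l _ _ (sub_mem (hv i) (hmem i k _ _ hm1)))
    (fun i => by
      have := neg_mem (hl i)
      rwa [← smul_neg, neg_sub] at this)
    (fun i j => by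
      have e : g j ^ (k + l) • g i ^ l • (v i - g i ^ k • m1) - g i ^ (k + l) • g j ^ l • (v j - g j ^ k • m1) =
          (g i ^ l * g j ^ l) • (g j ^ k • v i - g i ^ k • v j) := by
        simp only [smul_sub, smul_smul]
        rw [show g j ^ (k + l) * (g i ^ l * g i ^ k) = g i ^ (k + l) * (g j ^ l * g j ^ k) by ring,
          show g j ^ (k + l) * g i ^ l = g i ^ l * g j ^ l * g j ^ k by ring,
          show g i ^ (k + l) * g j ^ l = g i ^ l * g j ^ l * g i ^ k by ring]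
        abel
      rw [e]
      exact N.smul_mem _ (hcomp i j))
  refine ⟨m2 + m1, add_mem hm2 hm1, add_mem (hle' hm2N) hm1N, l' + l, fun i => ?_⟩
  have e : g i ^ (l' + l) • (g i ^ k • (m2 + m1) - v i) =
      g i ^ l' • (g i ^ (k + l) • m2 - g i ^ l • (v i - g i ^ k • m1)) := by
    simp only [smul_sub, smul_add, smul_smul]
    rw [show g i ^ (l' + l) * g i ^ k = g i ^ l' * g i ^ (k + l) by ring,
      show g i ^ l' * (g i ^ l * g i ^ k) = g i ^ l' * g i ^ (k + l) by ring,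
      show g i ^ l' * g i ^ l = g i ^ (l' + l) by ring]
    abel
  rw [e]
  exact hl' i

omit [Decomposition ℳ] [IsNoetherian S M] in
theorem h1_of_killed (N' N : Submodule S M) (h : ∀ i, ∃ e : ℕ, ∀ x ∈ N', g i ^ e • x ∈ N) : H1 ℳ g d₀ N' N := by
  have : Fintype ι := Fintype.ofFinite ι
  choose e he using h
  refine ⟨0, fun n _ k v hv hvN' _ => ⟨0, zero_mem _, zero_mem _, Finset.univ.sup e, fun i => ?_⟩⟩
  obtain ⟨c, hc⟩ := Nat.exists_eq_add_of_le (Finset.le_sup (f := e) (Finset.mem_univ i))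
  rw [hc, add_comm, pow_add, mul_smul, smul_zero, zero_sub, smul_neg]
  exact N.smul_mem _ (neg_mem (he i _ (hvN' i)))

include hD hg in
theorem h1_of_ideal [IsNoetherianRing S] (I : Ideal S) : ∀ (N' N : Submodule S M), IsHom ℳ N → IsHom ℳ N' → N ≤ N' →
    (∀ c ∈ I, ∀ x ∈ N', c • x ∈ N) → H1 ℳ g d₀ N' N := by
  induction I using WellFoundedGT.induction with
  | ind I ih =>
  intro N' N hN hN' hle hI
  by_cases hk : ∀ i, ∃ e : ℕ, ∀ x ∈ N', g i ^ e • x ∈ N
  · exact h1_of_killed ℳ g N' N hk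
  push Not at hk
  obtain ⟨a, ha⟩ := hk
  -- the `g a`-power torsion
  let N1 : Submodule S M :=
    { carrier := {x | x ∈ N' ∧ ∃ k : ℕ, g a ^ k • x ∈ N}
      zero_mem' := ⟨zero_mem _, 0, by simp⟩
      add_mem' := by
        rintro x y ⟨hx, k, hk⟩ ⟨hy, l, hl⟩
        refine ⟨add_mem hx hy, k + l, ?_⟩
        rw [smul_add]
        refine add_mem ?_ ?_
        · rw [add_comm k l, pow_add, mul_smul]
          exact N.smul_mem _ hk
        · rw [pow_add, mul_smul]
          exact N.smul_mem _ hl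
      smul_mem' := by
        rintro c x ⟨hx, k, hk⟩
        refine ⟨N'.smul_mem _ hx, k, ?_⟩
        rw [smul_comm]
        exact N.smul_mem _ hk }
  have hpow : ∀ (i : ι) (e : ℕ), g i ^ e ∈ 𝒜 (e * d₀) := fun i e => by
    simpa using SetLike.pow_mem_graded e (hg i)
  have hN1 : IsHom ℳ N1 := by
    rintro x ⟨hx, k, hk⟩ n
    refine ⟨hN' x hx n, k, ?_⟩
    rw [← cmp_smul_hom 𝒜 ℳ (hpow a k)]
    exact hN _ hk _
  have hle1 : N ≤ N1 := fun x hx => ⟨hle hx, 0, by simpa using hx⟩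
  have hle2 : N1 ≤ N' := fun x hx => hx.1
  obtain ⟨e, he⟩ := uniform_exponent N N1 (g a) (fun x hx => hx.2)
  refine h1_trans 𝒜 ℳ g hg N' N1 N hle1 hle2 ?_ ?_
  · refine ih (I ⊔ Ideal.span {g a ^ e}) ?_ N1 N hN hN1 hle1 ?_
    · refine lt_of_le_of_ne le_sup_left fun hne => ?_
      obtain ⟨x, hx, hx'⟩ := ha e
      refine hx' (hI _ ?_ x hx)
      rw [hne]
      exact Ideal.mem_sup_right (Ideal.mem_span_singleton_self _)
    · intro c hc x hx
      obtain ⟨p, hp, q, hq, rfl⟩ := Submodule.mem_sup.mp hc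
      obtain ⟨r, rfl⟩ := Ideal.mem_span_singleton'.mp hq
      rw [add_smul, mul_smul]
      exact add_mem (hI p hp x hx.1) (N.smul_mem _ (he x hx))
  · refine h1_of_nzd 𝒜 ℳ g hD hg N' N1 hN1 hN' a ?_
    rintro x hx ⟨_, k, hk⟩
    exact ⟨hx, k + 1, by rwa [pow_succ, mul_smul]⟩

include hD hg in
/-- For `S` Noetherian and `M` finite graded: compatible systems of fractions over the `g i` in high degree come
from an element of the module. -/
theorem h1_top [IsNoetherianRing S] : H1 ℳ g d₀ (⊤ : Submodule S M) ⊥ := by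
  refine h1_of_ideal 𝒜 ℳ g hD hg ⊥ ⊤ ⊥ ?_ ?_ bot_le ?_
  · rintro x hx n
    rw [Submodule.mem_bot] at hx
    simp [hx]
  · exact fun _ _ _ => trivial
  · rintro c hc x _
    rw [Submodule.mem_bot] at hc
    simp [hc]

end Groth.Agent.Coherent.K46.GrSecAlg

end
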