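import Groth.Agent.Coherent.K46.GrSec
import Groth.Agent.GrLC.K963.Dec

/-!
# `M_n → Γ(Proj S, M(n)~)` is bijective for large `n` when `M` satisfies (TF)

* `exists_generators` : a Noetherian positively graded ring has finitely many elements of the same positive degree
  such that all elements of large degree lie in the ideal generated by their `K`-th powers;
* `subGr` : the grading induced on a homogeneous submodule;
* `exists_sect_sub` : sections of `M(n)~` come from sections of `P(n)~` when `M / P` is torsion along positive degrees;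
* `bijective` : the theorem.
-/

universe u

noncomputable section

open DirectSum CategoryTheory CategoryTheory.Limits AlgebraicGeometry TopologicalSpace Opposite TopCat

namespace Groth.Agent.Coherent.K46.GrTF

open GrSecAlg GrSec

variable {S M σ τ : Type u} [CommRing S] [SetLike σ S] [AddSubgroupClass σ S] (𝒜 : ℕ → σ) [GradedRing 𝒜]
variable [AddCommGroup M] [Module S M] [SetLike τ M] [AddSubgroupClass τ M] (ℳ : ℕ → τ)

/-! ### Generators of the irrelevant ideal -/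

/-- Elements of large degree lie in a given power of the ideal generated by homogeneous generators of positive degree
of the irrelevant ideal. -/
theorem exists_degree_pow (T : Finset S) (δ : S → ℕ) (hδ : ∀ x ∈ T, 0 < δ x ∧ x ∈ 𝒜 (δ x))
    (hT : (HomogeneousIdeal.irrelevant 𝒜).toIdeal = Ideal.span (T : Set S)) (m : ℕ) :
    ∃ D : ℕ, ∀ d, D ≤ d → ∀ s ∈ 𝒜 d, s ∈ (Ideal.span (T : Set S)) ^ m := by
  induction m with
  | zero => exact ⟨0, fun d _ s _ => by simp⟩
  | succ m ih =>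
    obtain ⟨D, hD⟩ := ih
    refine ⟨D + T.sup δ + 1, fun d hd s hs => ?_⟩
    have hs' : s ∈ Ideal.span (T : Set S) := by
      rw [← hT]
      exact HomogeneousIdeal.mem_irrelevant_of_mem 𝒜 (show 0 < d by omega) hs
    -- the degree `d` component of a combination of elements of `T`
    have key : ∀ y ∈ Ideal.span (T : Set S), ∀ c : S, cmp 𝒜 d (c * y) ∈ (Ideal.span (T : Set S)) ^ (m + 1) := by
      intro y hy
      induction hy using Submodule.span_induction with
      | mem x hx =>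
        intro c
        have h1 : δ x ≤ T.sup δ := Finset.le_sup hx
        obtain ⟨e, rfl⟩ := Nat.exists_eq_add_of_le' (show δ x ≤ d by omega)
        rw [← smul_eq_mul, cmp_smul_of_mem 𝒜 𝒜 (hδ x hx).2, smul_eq_mul, pow_succ]
        exact Ideal.mul_mem_mul (hD e (by omega) _ (cmp_mem 𝒜 e c)) (Ideal.subset_span hx)
      | zero => intro c; simp
      | add x y _ _ hx hy => intro c; rw [mul_add, map_add]; exact add_mem (hx c) (hy c)
      | smul a x _ hx => intro c; rw [smul_eq_mul, ← mul_assoc]; exact hx _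
    have := key s hs' 1
    rwa [one_mul, cmp_same 𝒜 hs] at this

theorem exists_finset_generators [IsNoetherianRing S] : ∃ (T : Finset S) (δ : S → ℕ),
    (∀ x ∈ T, 0 < δ x ∧ x ∈ 𝒜 (δ x)) ∧
      (HomogeneousIdeal.irrelevant 𝒜).toIdeal = Ideal.span (T : Set S) := by
  obtain ⟨T, hT, hspan⟩ := Submodule.fg_span_iff_fg_span_finset_subset (R := S)
    (⋃ i > 0, (𝒜 i : Set S)) |>.mp (IsNoetherian.noetherian _)
  have h : ∀ x : S, ∃ d : ℕ, x ∈ T → 0 < d ∧ x ∈ 𝒜 d := by
    intro x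
    by_cases hx : x ∈ T
    · have := hT hx
      simp only [Set.mem_iUnion] at this
      obtain ⟨d, hd, hxd⟩ := this
      exact ⟨d, fun _ => ⟨hd, hxd⟩⟩
    · exact ⟨0, fun h => absurd h hx⟩
  choose δ hδ using h
  refine ⟨T, δ, hδ, ?_⟩
  rw [HomogeneousIdeal.irrelevant_eq_span]
  exact hspan

/-- The hypothesis on powers of generators, for a Noetherian graded ring. -/
theorem exists_generators [IsNoetherianRing S] :
    ∃ (r : ℕ) (g : Fin r → S) (d₀ : ℕ), 0 < d₀ ∧ (∀ i, g i ∈ 𝒜 d₀) ∧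
      ∀ K : ℕ, ∃ D : ℕ, ∀ d, D ≤ d → ∀ s ∈ 𝒜 d, s ∈ Ideal.span (Set.range fun i => g i ^ K) := by
  obtain ⟨T, δ, hδ, hT⟩ := exists_finset_generators 𝒜
  let e := T.equivFin
  let d₀ := ∏ x ∈ T, δ x
  have hd₀ : 0 < d₀ := Finset.prod_pos fun x hx => (hδ x hx).1
  have hdvd : ∀ x ∈ T, d₀ / δ x * δ x = d₀ := fun x hx => Nat.div_mul_cancel (Finset.dvd_prod_of_mem δ hx)
  refine ⟨T.card, fun i => ((e.symm i : T) : S) ^ (d₀ / δ (e.symm i : T)), d₀, hd₀, fun i => ?_, fun K => ?_⟩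
  · have := SetLike.pow_mem_graded (d₀ / δ (e.symm i : T)) (hδ _ (e.symm i).2).2
    rwa [smul_eq_mul, hdvd _ (e.symm i).2] at this
  · set J : Ideal S := Ideal.span (Set.range fun i => (((e.symm i : T) : S) ^ (d₀ / δ (e.symm i : T))) ^ K) with hJ
    have hrad : Ideal.span (T : Set S) ≤ J.radical := by
      rw [Ideal.span_le]
      intro x hx
      refine ⟨d₀ / δ x * K, Ideal.subset_span ⟨e ⟨x, hx⟩, ?_⟩⟩
      simp [pow_mul]
    obtain ⟨m, hm⟩ := Ideal.exists_pow_le_of_le_radical_of_fg hrad (IsNoetherian.noetherian _)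
    obtain ⟨D, hD⟩ := exists_degree_pow 𝒜 T δ hδ hT m
    exact ⟨D, fun d hd s hs => hm (hD d hd s hs)⟩

/-! ### The grading induced on a homogeneous submodule -/

/-- The grading induced on a submodule. -/
def subGr (P : Submodule S M) (i : ℕ) : AddSubgroup P where
  carrier := {x | (x : M) ∈ ℳ i}
  zero_mem' := by simp
  add_mem' := fun {x y} hx hy => by simpa using add_mem (show (x : M) ∈ ℳ i from hx) hy
  neg_mem' := fun {x} hx => by simpa using (show (x : M) ∈ ℳ i from hx)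

theorem mem_subGr {P : Submodule S M} {i : ℕ} {x : P} : x ∈ subGr ℳ P i ↔ (x : M) ∈ ℳ i := Iff.rfl

instance gradedSMul_subGr [SetLike.GradedSMul 𝒜 ℳ] (P : Submodule S M) : SetLike.GradedSMul 𝒜 (subGr ℳ P) :=
  ⟨fun {i j s x} hs hx => by
    rw [mem_subGr]
    exact SetLike.GradedSMul.smul_mem hs hx⟩

variable [DirectSum.Decomposition ℳ]

/-- The decomposition of a homogeneous submodule. -/
@[instance_reducible]
def decompSub {P : Submodule S M} (hP : IsHom ℳ P) : DirectSum.Decomposition (subGr ℳ P) :=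
  K963.Dec.ofProj (subGr ℳ P) (fun i x => ⟨cmp ℳ i x, hP x x.2 i⟩)
    (fun i x => cmp_mem ℳ i (x : M))
    (fun i x y => Subtype.ext (by simp))
    (fun i j x hx hne => Subtype.ext (by simpa using cmp_ne ℳ hx hne))
    (fun x => by
      obtain ⟨s, hs, hx⟩ := K963.Dec.sum_proj ℳ (x : M)
      refine ⟨s, fun i hi => Subtype.ext (hs i hi), Subtype.ext ?_⟩
      rw [AddSubmonoidClass.coe_finsetSum]
      exact hx)

variable [SetLike.GradedSMul 𝒜 ℳ]

/-- The submodule generated by the homogeneous elements of degree `≥ k`. -/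
def truncSub (k : ℕ) : Submodule S M := Submodule.span S (⋃ i ∈ Set.Ici k, (ℳ i : Set M))

omit [AddSubgroupClass τ M] [Decomposition ℳ] [SetLike.GradedSMul 𝒜 ℳ] in
theorem mem_truncSub {k i : ℕ} (hi : k ≤ i) {x : M} (hx : x ∈ ℳ i) : x ∈ truncSub (S := S) ℳ k :=
  Submodule.subset_span (Set.mem_iUnion₂.mpr ⟨i, hi, hx⟩)

include 𝒜 in
theorem isHom_truncSub (k : ℕ) : IsHom ℳ (truncSub (S := S) ℳ k) := by
  have key : ∀ x ∈ truncSub (S := S) ℳ k, ∀ s : S, ∀ n, cmp ℳ n (s • x) ∈ truncSub (S := S) ℳ k := by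
    intro x hx
    induction hx using Submodule.span_induction with
    | mem x hx =>
      obtain ⟨i, hi, hxi⟩ := Set.mem_iUnion₂.mp hx
      intro s n
      by_cases hn : n < i
      · rw [cmp_smul_of_mem_lt 𝒜 ℳ hxi hn]
        exact zero_mem _
      · obtain ⟨d, rfl⟩ := Nat.exists_eq_add_of_le' (not_lt.mp hn)
        rw [cmp_smul_of_mem 𝒜 ℳ hxi]
        exact Submodule.smul_mem _ _ (Submodule.subset_span hx)
    | zero => intro s n; simp
    | add x y _ _ hx hy => intro s n; rw [smul_add, map_add]; exact add_mem (hx s n) (hy s n)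
    | smul a x _ hx => intro s n; rw [smul_smul]; exact hx _ n
  intro x hx n
  have := key x hx 1 n
  rwa [one_smul] at this

/-- `M / P` is torsion along the elements of positive degree. -/
def IsTrunc (P : Submodule S M) : Prop :=
  ∀ (d : ℕ), 0 < d → ∀ w ∈ 𝒜 d, ∀ (i : ℕ), ∀ m ∈ ℳ i, ∃ k : ℕ, w ^ k • m ∈ P

omit [Decomposition ℳ] [AddSubgroupClass τ M] in
theorem isTrunc_truncSub (k : ℕ) : IsTrunc 𝒜 ℳ (truncSub (S := S) ℳ k) := by
  intro d hd w hw i m hm
  refine ⟨k, ?_⟩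
  have h1 : w ^ k ∈ 𝒜 (k * d) := by simpa using SetLike.pow_mem_graded k hw
  refine mem_truncSub ℳ (i := k * d + i) ?_ (SetLike.GradedSMul.smul_mem h1 hm)
  calc k = k * 1 := (mul_one k).symm
    _ ≤ k * d := Nat.mul_le_mul_left k hd
    _ ≤ k * d + i := Nat.le_add_right _ _

/-! ### Transfer of sections -/

theorem locMap_injective (P : Submodule S M) (z : ProjectiveSpectrum 𝒜) :
    Function.Injective (GrMod.locMap (𝒜 := 𝒜) P.subtype z) := by
  intro x y h
  induction x using LocalizedModule.induction_on with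
  | h a s =>
    induction y using LocalizedModule.induction_on with
    | h b t =>
      rw [GrMod.locMap_mk, GrMod.locMap_mk, LocalizedModule.mk_eq] at h
      obtain ⟨c, hc⟩ := h
      rw [LocalizedModule.mk_eq]
      exact ⟨c, Subtype.ext hc⟩

theorem locMap_smul (P : Submodule S M) (z : ProjectiveSpectrum 𝒜) (s : S) (q : GrMod.LocMod 𝒜 (M := P) z) :
    GrMod.locMap (𝒜 := 𝒜) P.subtype z (s • q) = s • GrMod.locMap (𝒜 := 𝒜) P.subtype z q := by
  induction q using LocalizedModule.induction_on with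
  | h a t => rw [LocalizedModule.smul'_mk, GrMod.locMap_mk, GrMod.locMap_mk, LocalizedModule.smul'_mk, map_smul]

omit [Decomposition ℳ] in
theorem exists_sect_sub {P : Submodule S M} (hP : IsTrunc 𝒜 ℳ P) {n : ℕ} (f : GrMod.sect 𝒜 ℳ (n : ℤ) (op ⊤)) :
    ∃ f' : GrMod.sect 𝒜 (subGr ℳ P) (n : ℤ) (op ⊤),
      ∀ z, GrMod.locMap (𝒜 := 𝒜) P.subtype z (val 𝒜 (subGr ℳ P) f' z) = val 𝒜 ℳ f z := by
  -- the local description
  have hloc : ∀ z : ProjectiveSpectrum 𝒜, ∃ (t : S) (e j : ℕ) (a : P) (s : S), t ∈ 𝒜 e ∧ s ∈ 𝒜 j ∧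
      a ∈ subGr ℳ P (n + j) ∧ t ∉ z.asHomogeneousIdeal ∧
      (∀ y : ProjectiveSpectrum 𝒜, t ∉ y.asHomogeneousIdeal → s ∉ y.asHomogeneousIdeal) ∧
      ∀ y : ProjectiveSpectrum 𝒜, t ∉ y.asHomogeneousIdeal →
        s • val 𝒜 ℳ f y = LocalizedModule.mk (a : M) 1 := by
    intro z
    obtain ⟨t, j, e, a, s, ht, hs, ha, htz, hst, hval⟩ := exists_local f z
    obtain ⟨d, hd, w, hw, hwz⟩ := exists_homog_notMem 𝒜 z
    obtain ⟨k, hk⟩ := hP d hd w hw _ a ha
    have hwk : w ^ k ∈ 𝒜 (k * d) := by simpa using SetLike.pow_mem_graded k hw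
    refine ⟨t * w, e + d, k * d + j, ⟨w ^ k • a, hk⟩, w ^ k * s, SetLike.mul_mem_graded ht hw,
      SetLike.mul_mem_graded hwk hs, ?_, ?_, ?_, ?_⟩
    · rw [mem_subGr, show n + (k * d + j) = k * d + (n + j) by ring]
      exact SetLike.GradedSMul.smul_mem hwk ha
    · intro h
      exact (z.isPrime.mem_or_mem h).elim htz hwz
    · intro y hy h
      have h1 : t ∉ y.asHomogeneousIdeal := fun h => hy (y.asHomogeneousIdeal.toIdeal.mul_mem_right _ h)
      have h2 : w ∉ y.asHomogeneousIdeal := fun h => hy (y.asHomogeneousIdeal.toIdeal.mul_mem_left _ h)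
      exact (y.isPrime.mem_or_mem h).elim (fun h => h2 (y.isPrime.mem_of_pow_mem k h)) (hst y h1)
    · intro y hy
      have h1 : t ∉ y.asHomogeneousIdeal := fun h => hy (y.asHomogeneousIdeal.toIdeal.mul_mem_right _ h)
      rw [mul_smul, hval y h1, LocalizedModule.smul'_mk]
  -- the values
  have hfrac : ∀ (y : ProjectiveSpectrum 𝒜) (j : ℕ) (a : P) (s : S), (ha : a ∈ subGr ℳ P (n + j)) → (hs : s ∈ 𝒜 j) →
      (hsy : s ∉ y.asHomogeneousIdeal) → s • val 𝒜 ℳ f y = LocalizedModule.mk (a : M) 1 →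
      GrMod.locMap (𝒜 := 𝒜) P.subtype y (LocalizedModule.mk a ⟨s, hsy⟩) = val 𝒜 ℳ f y := by
    intro y j a s ha hs hsy h
    refine IsLocalizedModule.smul_injective (LocalizedModule.mkLinearMap y.asHomogeneousIdeal.toIdeal.primeCompl M)
      (⟨s, hsy⟩ : y.asHomogeneousIdeal.toIdeal.primeCompl) ?_
    change s • GrMod.locMap (𝒜 := 𝒜) P.subtype y _ = s • val 𝒜 ℳ f y
    rw [h, ← locMap_smul, LocalizedModule.smul'_mk, ← LocalizedModule.mk_cancel (⟨s, hsy⟩ :
      y.asHomogeneousIdeal.toIdeal.primeCompl) (a : M), GrMod.locMap_mk]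
    rfl
  have hval : ∀ z : ProjectiveSpectrum 𝒜, ∃ q : GrMod.tildeAt 𝒜 (subGr ℳ P) (n : ℤ) z,
      GrMod.locMap (𝒜 := 𝒜) P.subtype z q = val 𝒜 ℳ f z := by
    intro z
    obtain ⟨t, e, j, a, s, ht, hs, ha, htz, hst, hv⟩ := hloc z
    exact ⟨⟨LocalizedModule.mk a ⟨s, hst z htz⟩, Submodule.subset_span ⟨n + j, j, ⟨a, ha⟩, ⟨s, hs⟩, hst z htz,
      by push_cast; ring, rfl⟩⟩, hfrac z j a s ha hs (hst z htz) (hv z htz)⟩
  choose q hq using hval
  refine ⟨⟨fun z => q z.1, fun z => ?_⟩, fun z => hq z⟩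
  obtain ⟨t, e, j, a, s, ht, hs, ha, htz, hst, hv⟩ := hloc z.1
  refine ⟨ProjectiveSpectrum.basicOpen 𝒜 t, htz, homOfLE le_top, n + j, j, ⟨a, ha⟩, ⟨s, hs⟩, fun y => hst y.1 y.2,
    Or.inl (by push_cast; ring), fun y => ?_⟩
  apply locMap_injective 𝒜 P y.1
  exact (hq y.1).trans (hfrac y.1 j a s ha hs (hst y.1 y.2) (hv y.1 y.2)).symm

omit [Decomposition ℳ] in
theorem alpha_eq_iff {n : ℕ} (m : ℳ n) (f : Γ(GrMod.tilde 𝒜 ℳ (n : ℤ), (⊤ : (Proj 𝒜).Opens))) :
    GrMod.alpha 𝒜 ℳ n m = f ↔ ∀ z, val 𝒜 ℳ f z = LocalizedModule.mk (m : M) 1 := by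
  constructor
  · rintro rfl z
    rfl
  · intro h
    apply Subtype.ext
    funext x
    apply Subtype.ext
    exact (h x.1).symm

/-- **`M_n → Γ(Proj S, M(n)~)` is bijective for large `n`** when the submodule generated by the elements of large
degree is finitely generated over the Noetherian ring `S`. -/
theorem bijective [IsNoetherianRing S]
    (hTF : ∃ k : ℕ, (Submodule.span S (⋃ i ∈ Set.Ici k, (ℳ i : Set M))).FG) :
    ∃ N : ℕ, ∀ n : ℕ, N ≤ n → Function.Bijective (GrMod.alpha 𝒜 ℳ n) := by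
  obtain ⟨k, hk⟩ := hTF
  let P : Submodule S M := truncSub ℳ k
  have hPf : Module.Finite S P := Module.Finite.iff_fg.mpr hk
  have hPn : IsNoetherian S P := isNoetherian_of_isNoetherianRing_of_finite S P
  let _ : DirectSum.Decomposition (subGr ℳ P) := decompSub ℳ (isHom_truncSub 𝒜 ℳ k)
  obtain ⟨r, g, d₀, hd₀, hg, hD⟩ := exists_generators 𝒜
  obtain ⟨N, hN⟩ := GrSec.bijective 𝒜 (subGr ℳ P) g hD hd₀ hg
  refine ⟨max N k, fun n hn => ⟨fun a b hab => ?_, fun f => ?_⟩⟩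
  · have ha : (a : M) ∈ P := mem_truncSub ℳ (show k ≤ n by omega) a.2
    have hb : (b : M) ∈ P := mem_truncSub ℳ (show k ≤ n by omega) b.2
    have h1 := (alpha_eq_iff 𝒜 ℳ a _).mp hab
    have h2 : (⟨⟨a, ha⟩, a.2⟩ : subGr ℳ P n) = ⟨⟨b, hb⟩, b.2⟩ := by
      apply (hN n (by omega)).1
      apply Subtype.ext
      funext x
      apply Subtype.ext
      apply locMap_injective 𝒜 P x.1
      exact (GrMod.locMap_mk (𝒜 := 𝒜) P.subtype x.1 ⟨a, ha⟩ 1).trans ((h1 x.1).symm.trans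
        (GrMod.locMap_mk (𝒜 := 𝒜) P.subtype x.1 ⟨b, hb⟩ 1).symm)
    exact Subtype.ext (congrArg (fun x : subGr ℳ P n => ((x : P) : M)) h2)
  · obtain ⟨f', hf'⟩ := exists_sect_sub 𝒜 ℳ (isTrunc_truncSub 𝒜 ℳ k) f
    obtain ⟨m, hm⟩ := (hN n (by omega)).2 f'
    refine ⟨⟨((m : P) : M), m.2⟩, (alpha_eq_iff 𝒜 ℳ _ _).mpr fun z => ?_⟩
    rw [← hf' z]
    have h1 : val 𝒜 (subGr ℳ P) f' z = LocalizedModule.mk (m : P) 1 := by
      rw [← hm]
      rfl
    rw [h1, GrMod.locMap_mk]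
    rfl

end Groth.Agent.Coherent.K46.GrTF

end
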