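import Groth.Agent.CurvesC.GGSec
import Groth.Agent.CohqA.AffPush
import Groth.Agent.Ega2.GlobGenCrit
import Mathlib.AlgebraicGeometry.Morphisms.Flat

/-!
# Direct images of globally generated modules along base changes of affine morphisms
-/

set_option autoImplicit false
universe u

open CategoryTheory CategoryTheory.Limits AlgebraicGeometry TopologicalSpace Opposite

namespace Groth.Agent.Coherent.K46.PushGG

open Groth.Agent.Fdesc.LocGen

/-- Elements of a pushout of rings are sums of products. -/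
theorem mem_of_isPushout {R A B C : CommRingCat.{u}} {f : R ⟶ A} {g : R ⟶ B} {a : A ⟶ C} {b : B ⟶ C}
    (h : IsPushout f g a b) (P : C → Prop) (h0 : P 0) (hadd : ∀ x y, P x → P y → P (x + y))
    (hmul : ∀ (x : A) (y : B), P (a x * b y)) (c : C) : P c := by
  let _ : Algebra R A := f.hom.toAlgebra
  let _ : Algebra R B := g.hom.toAlgebra
  let _ : Algebra A C := a.hom.toAlgebra
  let _ : Algebra B C := b.hom.toAlgebra
  let _ : Algebra R C := (f ≫ a).hom.toAlgebra
  have : IsScalarTower R A C := .of_algebraMap_eq' rfl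
  have : IsScalarTower R B C := .of_algebraMap_eq' (by
    change (f ≫ a).hom = (g ≫ b).hom
    rw [h.w])
  have h' : Algebra.IsPushout R A B C := CommRingCat.isPushout_iff_isPushout.mp h
  have key : ∀ x : A, P (a x * c) := by
    refine h'.out.inductionOn c (fun c => ∀ x : A, P (a x * c)) (fun x => ?_) (fun y x => hmul x y)
      (fun s c hc x => ?_) (fun c c' h1 h2 x => ?_)
    · rw [mul_zero]; exact h0
    · have h1 := hc (x * s)
      have h2 : a x * (s • c) = a (x * s) * c := by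
        rw [map_mul, mul_assoc]
        rfl
      rw [h2]
      exact h1
    · rw [mul_add]
      exact hadd _ _ (h1 x) (h2 x)
  simpa using key 1

variable {X S T X' : Scheme.{u}} {f : X ⟶ S} {g : T ⟶ S} {g' : X' ⟶ X} {f' : X' ⟶ T}

/-- `g'_* E` is globally generated if `E` is, for `g'` a base change of a morphism of affine schemes. -/
theorem isGloballyGenerated_push (H : IsPullback g' f' f g) [IsAffine S] [IsAffine T]
    {E : X'.Modules} (hE : Coh.IsQCoh E) (hg : Curv2.IsGloballyGenerated E) :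
    Curv2.IsGloballyGenerated ((Coh.push g').obj E) := by
  have hg' : IsAffineHom g' := MorphismProperty.of_isPullback H.flip inferInstance
  obtain ⟨ι, s, hs⟩ := CurvesC.GGSec.exists_sections_of_isGloballyGenerated hg
  refine Ega2.GlobGenCrit.isGloballyGenerated_of_span (CohqA.AffPush.isQCoh_push g' E hE)
    (ι := X.affineOpens) (fun W => W.1) (fun W => W.2) (iSup_affineOpens_eq_top X) (fun W => ?_)
  have h1 := CurvesC.GGSec.spanOn_eq_top hE hs (W.2.preimage g')
  let D : Submodule Γ(X, W.1) Γ((Coh.push g').obj E, W.1) := Submodule.span Γ(X, W.1)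
    (Set.range (res ((Coh.push g').obj E) (le_top : W.1 ≤ ⊤)))
  let P : Γ(E, g' ⁻¹ᵁ W.1) → Prop := fun x => (show Γ((Coh.push g').obj E, W.1) from x) ∈ D
  have hres : ∀ t : Γ(E, ⊤), P (res E (le_top : g' ⁻¹ᵁ W.1 ≤ ⊤) t) := fun t =>
    Submodule.subset_span ⟨t, rfl⟩
  have h0 : P 0 := D.zero_mem
  have hadd : ∀ x y, P x → P y → P (x + y) := fun x y h2 h3 => D.add_mem h2 h3
  have hsmul : ∀ (a : Γ(X, W.1)) (x : Γ(E, g' ⁻¹ᵁ W.1)), P x → P (g'.app W.1 a • x) :=
    fun a x h2 => D.smul_mem a h2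
  have hind : ∀ Q : Γ(E, g' ⁻¹ᵁ W.1) → Prop,
      (∀ t : Γ(E, ⊤), Q (res E (le_top : g' ⁻¹ᵁ W.1 ≤ ⊤) t)) → Q 0 →
      (∀ x y, Q x → Q y → Q (x + y)) →
      (∀ (a : Γ(X, W.1)) (x : Γ(E, g' ⁻¹ᵁ W.1)), Q x → Q (g'.app W.1 a • x)) → ∀ x, P x → Q x := by
    intro Q q1 q2 q3 q4 x hx
    refine Submodule.span_induction (R := Γ(X, W.1)) (M := Γ((Coh.push g').obj E, W.1))
      (s := Set.range (res ((Coh.push g').obj E) (le_top : W.1 ≤ ⊤)))
      (p := fun x _ => Q x) ?_ q2 (fun x y _ _ => q3 x y) (fun a x _ => q4 a x) hx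
    rintro _ ⟨t, rfl⟩
    exact q1 t
  have hB : ∀ (b : Γ(T, ⊤)) (x : Γ(E, g' ⁻¹ᵁ W.1)), P x →
      P ((f'.appLE ⊤ (g' ⁻¹ᵁ W.1) le_top b) • x) := by
    intro b
    refine hind _ ?_ ?_ ?_ ?_
    · intro t
      have h2 := hres ((f'.appTop b : Γ(X', ⊤)) • (show Γ(E, ⊤) from t))
      rw [res_smul] at h2
      have h3 : ores (le_top : g' ⁻¹ᵁ W.1 ≤ ⊤) (f'.appTop b) = f'.appLE ⊤ (g' ⁻¹ᵁ W.1) le_top b := rfl
      rw [h3] at h2
      exact h2
    · rw [smul_zero]
      exact h0
    · intro x y h1 h2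
      rw [smul_add]
      exact hadd _ _ h1 h2
    · intro a x h2
      rw [smul_comm]
      exact hsmul a _ h2
  have hC : ∀ (r : Γ(X', g' ⁻¹ᵁ W.1)) (x : Γ(E, g' ⁻¹ᵁ W.1)), P x → P (r • x) := by
    intro r x hx
    have h2 := (isIso_pushoutSection_iff H (US := ⊤) (UT := ⊤) (UX := W.1) (UY := g' ⁻¹ᵁ W.1)
      le_top le_top (by simp)).mp (isIso_pushoutSection_of_isAffineOpen H le_top le_top (by simp)
        (isAffineOpen_top _) (isAffineOpen_top _) W.2)
    refine mem_of_isPushout h2 (fun r => P (r • x)) ?_ ?_ ?_ r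
    · rw [zero_smul]
      exact h0
    · intro r r' h3 h4
      rw [add_smul]
      exact hadd _ _ h3 h4
    · intro a b
      rw [mul_smul, Scheme.Hom.appLE_eq_app]
      exact hsmul a _ (hB b x hx)
  have key : ∀ x, P x := by
    intro t
    have ht : t ∈ CurvesC.GGSec.spanOn E s (g' ⁻¹ᵁ W.1) := by
      rw [h1]; trivial
    refine Submodule.span_induction (p := fun x _ => P x) ?_ h0
      (fun x y _ _ h2 h3 => hadd x y h2 h3) (fun r x _ h2 => hC r x h2) ht
    rintro _ ⟨i, rfl⟩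
    exact hres (s i)
  exact (eq_top_iff.mpr fun t _ => key t : D = ⊤)

end Groth.Agent.Coherent.K46.PushGG
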