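import Groth.Prelude.Def_ega3
import Mathlib.AlgebraicGeometry.Morphisms.UniversallyInjective
import Mathlib.AlgebraicGeometry.Morphisms.Integral
import Mathlib.AlgebraicGeometry.Morphisms.Flat
import Mathlib.AlgebraicGeometry.FunctionField
import Mathlib.AlgebraicGeometry.PullbackCarrier
import Mathlib.AlgebraicGeometry.Geometrically.Connected
import Mathlib.Algebra.CharP.Reduced
import Mathlib.RingTheory.IntegralClosure.IntegrallyClosed

/-!
# Radicial Stein factorizations

`X ⟶ N ⟶ Y`, `X` and `Y` integral, `N ⟶ Y` integral, the algebraic closure of `R(Y)` in `R(X)` purely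
inseparable.  After base change to a normal `Spec V` with fraction field `R(Y)` such that all components of the base
change of `X` dominate `Spec V`, the morphism `N ⟶ Y` becomes universally injective.
-/

set_option autoImplicit false
universe u

open CategoryTheory CategoryTheory.Limits AlgebraicGeometry TopologicalSpace

namespace Groth.Agent.Coherent.K46.RadStein

/-- Powers of exponents `p^e` are injective. -/
theorem eq_of_pow_eq {K : Type*} [CommRing K] [IsDomain K] {p : ℕ} (hp : p = 1 ∨ (p.Prime ∧ (p : K) = 0))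
    {a b : K} {e : ℕ} (h : a ^ p ^ e = b ^ p ^ e) : a = b := by
  obtain rfl | ⟨hp, h0⟩ := hp
  · simpa using h
  · have h1 : CharP K p := (CharP.charP_iff_prime_eq_zero hp).mpr h0
    have h2 : ExpChar K p := .prime hp
    exact iterateFrobenius_inj K p e h

/-- A morphism `C ⟶ S`, `C` affine with generic point `t₀`, is universally injective if every function has a
`p^e`-th power which generically comes from `S`. -/
theorem universallyInjective_of_pow {C S : Scheme.{u}} [IsAffine C] (s : C ⟶ S) (p : ℕ)
    (hp : p = 1 ∨ (p.Prime ∧ (p : Γ(C, ⊤)) = 0)) (t₀ : C) (ht₀ : ∀ x : C, t₀ ⤳ x)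
    (h : ∀ c : Γ(C, ⊤), ∃ (e : ℕ) (v : Γ(S, ⊤)), t₀ ∉ C.basicOpen (c ^ p ^ e - s.appTop v)) :
    UniversallyInjective s := by
  refine ((tfae_universallyInjective s).out 0 1).mpr ?_
  intro K _ g₁ g₂ hg
  apply ext_of_isAffine
  ext c
  obtain ⟨e, v, hv⟩ := h c
  have hbot : C.basicOpen (c ^ p ^ e - s.appTop v) = ⊥ := by
    ext x
    refine ⟨fun hx => ?_, fun hx => hx.elim⟩
    exact hv ((ht₀ x).mem_open (C.basicOpen _).isOpen hx)
  have key : ∀ g : Spec (.of K) ⟶ C, (g.appTop c) ^ p ^ e = (g ≫ s).appTop v := by
    intro g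
    have h1 : (Spec (.of K)).basicOpen (g.appTop (c ^ p ^ e - s.appTop v)) = ⊥ := by
      have h2 := Scheme.preimage_basicOpen g (U := ⊤) (c ^ p ^ e - s.appTop v)
      rw [hbot] at h2
      refine h2.symm.trans ?_
      rfl
    rw [basicOpen_eq_bot_iff] at h1
    rw [map_sub, map_pow, sub_eq_zero] at h1
    rw [h1]
    simp
  have hg' : g₁ ≫ s = g₂ ≫ s := hg
  have h3 : (g₁.appTop c) ^ p ^ e = (g₂.appTop c) ^ p ^ e := by rw [key, key, hg']
  refine eq_of_pow_eq ?_ h3
  refine hp.imp id (fun h => ⟨h.1, ?_⟩)
  have h4 := congrArg g₁.appTop.hom h.2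
  simpa using h4

section Generic

set_option linter.unusedSectionVars false

variable {X Y : Scheme.{u}} [IsIntegral X] [IsIntegral Y] (f : X ⟶ Y)
  (hdom : f.base (genericPoint X) ⤳ genericPoint Y)
  {V : Type u} [CommRing V] [IsDomain V] [Algebra V Y.functionField]
  [IsFractionRing V Y.functionField]
  (u : Spec (CommRingCat.of V) ⟶ Y)
  (hu : Spec.map (CommRingCat.ofHom (algebraMap V Y.functionField)) ≫ u =
    Y.fromSpecStalk (genericPoint Y))

/-- The map `Spec R(X) ⟶ Spec R(Y)`. -/
noncomputable abbrev ρ : Spec X.functionField ⟶ Spec Y.functionField :=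
  Spec.map (Y.presheaf.stalkSpecializes hdom ≫ f.stalkMap (genericPoint X))

theorem ρ_fromSpecStalk : ρ f hdom ≫ Y.fromSpecStalk (genericPoint Y) =
    X.fromSpecStalk (genericPoint X) ≫ f := by
  rw [ρ, Spec.map_comp, Category.assoc]
  have h2 := Scheme.SpecMap_stalkSpecializes_fromSpecStalk (X := Y) hdom
  rw [h2]
  exact Scheme.SpecMap_stalkMap_fromSpecStalk f

/-- The map `Spec R(Y) ⟶ Spec V`. -/
noncomputable abbrev ιV : Spec Y.functionField ⟶ Spec (CommRingCat.of V) :=
  Spec.map (CommRingCat.ofHom (algebraMap V Y.functionField))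

/-- The map `Spec R(X) ⟶ X ×_Y Spec V`. -/
noncomputable def θX : Spec X.functionField ⟶ pullback f u :=
  pullback.lift (X.fromSpecStalk (genericPoint X)) (ρ f hdom ≫ ιV (V := V)) (by
    rw [Category.assoc]
    exact (ρ_fromSpecStalk f hdom).symm.trans (congrArg (fun t => ρ f hdom ≫ t) hu.symm))

theorem θX_fst : θX f hdom u hu ≫ pullback.fst f u = X.fromSpecStalk (genericPoint X) :=
  pullback.lift_fst _ _ _

theorem θX_snd : θX f hdom u hu ≫ pullback.snd f u = ρ f hdom ≫ ιV (V := V) :=
  pullback.lift_snd _ _ _

/-- The generic point of `X ×_Y Spec V`. -/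
noncomputable def x₀ : ↥(pullback f u) := θX f hdom u hu (IsLocalRing.closedPoint X.functionField)

omit [IsIntegral X] in
theorem eq_of_dense {z : ↥(pullback f u)}
    (hz : Dense ((pullback.snd f u) '' (closure {z}))) :
    ∃ t : Spec Y.functionField, pullback.snd f u z = ιV (V := V) t := by
  let η : Spec Y.functionField := IsLocalRing.closedPoint Y.functionField
  refine ⟨η, ?_⟩
  have h1 : pullback.snd f u z ⤳ ιV (V := V) η := by
    rw [specializes_iff_mem_closure]
    have h2 : closure ((pullback.snd f u) '' (closure {z})) ⊆ closure {pullback.snd f u z} := by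
      have := image_closure_subset_closure_image (f := pullback.snd f u) (s := {z})
        (pullback.snd f u).continuous
      rw [Set.image_singleton] at this
      exact closure_minimal this isClosed_closure
    exact h2 (hz _)
  have h3 : ιV (V := V) η ⤳ pullback.snd f u z := by
    refine (PrimeSpectrum.le_iff_specializes (R := V) _ _).mp ?_
    intro a ha
    have h4 : algebraMap V Y.functionField a ∈ (η : PrimeSpectrum Y.functionField).asIdeal := ha
    have h5 : (η : PrimeSpectrum Y.functionField).asIdeal = ⊥ :=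
      IsLocalRing.maximalIdeal_eq_bot (R := Y.functionField)
    rw [h5, Ideal.mem_bot] at h4
    have h6 : a = 0 := (IsFractionRing.injective V Y.functionField) (by rw [h4, map_zero])
    rw [h6]
    exact Ideal.zero_mem _
  exact (h1.antisymm h3).eq

include hdom hu in
/-- Every point of `X ×_Y Spec V` is a specialization of `x₀` if all components dominate `Spec V`. -/
theorem x₀_specializes
    (hcomp : ∀ Z ∈ irreducibleComponents ↥(pullback f u), Dense ((pullback.snd f u).base '' Z))
    (z : ↥(pullback f u)) : x₀ f hdom u hu ⤳ z := by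
  -- the generic point of a component through `z`
  have hZ := irreducibleComponent_mem_irreducibleComponents z
  obtain ⟨z₁, hz₁⟩ := QuasiSober.sober (isIrreducible_irreducibleComponent (x := z))
    isClosed_irreducibleComponent
  have h1 : z₁ ⤳ z := by
    rw [specializes_iff_mem_closure, hz₁]
    exact mem_irreducibleComponent
  refine Specializes.trans ?_ h1
  have h2 := hcomp _ hZ
  rw [← hz₁] at h2
  obtain ⟨t, ht⟩ := eq_of_dense f u h2
  let W := pullback (pullback.snd f u) (ιV (V := V) (Y := Y))
  obtain ⟨w, hw, -⟩ := Scheme.Pullback.exists_preimage_pullback (f := pullback.snd f u)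
    (g := ιV (V := V) (Y := Y)) z₁ t ht
  have hsq : IsPullback (pullback.fst (pullback.snd f u) (ιV (V := V) (Y := Y)) ≫ pullback.fst f u)
      (pullback.snd (pullback.snd f u) (ιV (V := V) (Y := Y))) f
      (Y.fromSpecStalk (genericPoint Y)) := by
    have a1 := IsPullback.of_hasPullback (pullback.snd f u) (ιV (V := V) (Y := Y))
    have a3 := a1.paste_horiz (IsPullback.of_hasPullback f u)
    have hu' : ιV (V := V) (Y := Y) ≫ u = Y.fromSpecStalk (genericPoint Y) := hu
    rwa [hu'] at a3
  have hpre : IsPreimmersion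
      (pullback.fst (pullback.snd f u) (ιV (V := V) (Y := Y)) ≫ pullback.fst f u) :=
    MorphismProperty.of_isPullback hsq.flip inferInstance
  let θW : Spec X.functionField ⟶ W := pullback.lift (θX f hdom u hu) (ρ f hdom) (θX_snd f hdom u hu)
  let w₀ : W := θW (IsLocalRing.closedPoint X.functionField)
  have hw₀ : pullback.fst (pullback.snd f u) (ιV (V := V) (Y := Y)) w₀ = x₀ f hdom u hu := by
    change (pullback.fst (pullback.snd f u) (ιV (V := V) (Y := Y))) (θW _) = _
    rw [← Scheme.Hom.comp_apply, pullback.lift_fst]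
    rfl
  rw [← hw₀, ← hw]
  refine Specializes.map ?_ (pullback.fst (pullback.snd f u) (ιV (V := V) (Y := Y))).continuous
  rw [← hpre.isEmbedding.isInducing.specializes_iff]
  have h5 : (pullback.fst (pullback.snd f u) (ιV (V := V) (Y := Y)) ≫ pullback.fst f u) w₀ =
      genericPoint X := by
    rw [Scheme.Hom.comp_apply, hw₀]
    change (pullback.fst f u) (θX f hdom u hu _) = _
    rw [← Scheme.Hom.comp_apply, θX_fst, Scheme.fromSpecStalk_closedPoint]
  rw [h5]
  exact genericPoint_specializes _

end Generic

section Alg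

/-- An element `x` of `L` integral over the normal `V` with `x^n ∈ K = Frac V`: `x^n ∈ V`. -/
theorem exists_of_pow_mem {V K L : Type*} [CommRing V] [IsDomain V] [IsIntegrallyClosed V] [Field K]
    [Algebra V K] [IsFractionRing V K] [Field L] (φ : K →+* L) {x : L}
    (hx : (φ.comp (algebraMap V K)).IsIntegralElem x) {n : ℕ} {r : K} (hr : φ r = x ^ n) :
    ∃ v : V, φ (algebraMap V K v) = x ^ n := by
  have h1 : (φ.comp (algebraMap V K)).IsIntegralElem (x ^ n) := by
    let _ := (φ.comp (algebraMap V K)).toAlgebra
    have h : IsIntegral V x := hx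
    exact h.pow n
  rw [← hr] at h1
  obtain ⟨P, hP, hP'⟩ := h1
  have h2 : IsIntegral V r := by
    refine ⟨P, hP, ?_⟩
    apply φ.injective
    rw [map_zero, ← hP', Polynomial.hom_eval₂]
  obtain ⟨v, hv⟩ := IsIntegrallyClosed.isIntegral_iff.mp h2
  exact ⟨v, by rw [hv, hr]⟩

/-- Integral elements are algebraic. -/
theorem exists_poly {V K L : Type*} [CommRing V] [IsDomain V] [Field K]
    [Algebra V K] [IsFractionRing V K] [Field L] (φ : K →+* L) {x : L}
    (hx : (φ.comp (algebraMap V K)).IsIntegralElem x) :
    ∃ q : Polynomial K, q ≠ 0 ∧ Polynomial.eval₂ φ x q = 0 := by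
  obtain ⟨P, hP, hP'⟩ := hx
  refine ⟨P.map (algebraMap V K), (hP.map _).ne_zero, ?_⟩
  rw [Polynomial.eval₂_map]
  exact hP'

end Alg

section Main

variable {X Y N : Scheme.{u}} [IsIntegral X] [IsIntegral Y] (p : X ⟶ N) (q : N ⟶ Y)
  [Surjective p] [IsIntegralHom q]
  (hdom : (p ≫ q).base (genericPoint X) ⤳ genericPoint Y)
  (hrad : ∀ x : X.functionField,
      (∃ Q : Polynomial Y.functionField, Q ≠ 0 ∧
        Polynomial.eval₂ (CohIII.stalkToFunctionField (p ≫ q) (genericPoint Y) hdom) x Q = 0) →
      ∃ e : ℕ, x ^ (ringExpChar X.functionField ^ e) ∈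
        Set.range (CohIII.stalkToFunctionField (p ≫ q) (genericPoint Y) hdom))
  {V : Type u} [CommRing V] [IsDomain V] [IsIntegrallyClosed V] [Algebra V Y.functionField]
  [IsFractionRing V Y.functionField]
  (u : Spec (CommRingCat.of V) ⟶ Y)
  (hu : Spec.map (CommRingCat.ofHom (algebraMap V Y.functionField)) ≫ u =
    Y.fromSpecStalk (genericPoint Y))

/-- The map `X ×_Y Spec V ⟶ N ×_Y Spec V`. -/
noncomputable def π : pullback (p ≫ q) u ⟶ pullback q u :=
  pullback.lift (pullback.fst (p ≫ q) u ≫ p) (pullback.snd (p ≫ q) u) (by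
    rw [Category.assoc, pullback.condition])

omit [IsIntegral X] [IsIntegral Y] [Surjective p] [IsIntegralHom q] [IsDomain V]
  [IsIntegrallyClosed V] [Algebra V Y.functionField] [IsFractionRing V Y.functionField] in
theorem isPullback_π : IsPullback (pullback.fst (p ≫ q) u) (π p q u) p (pullback.fst q u) := by
  refine IsPullback.of_bot (v₂₁ := pullback.snd q u) (v₂₂ := q) (h₃₁ := u) ?_ ?_ ?_
  · have h : π p q u ≫ pullback.snd q u = pullback.snd (p ≫ q) u := pullback.lift_snd _ _ _
    rw [h]
    exact IsPullback.of_hasPullback _ _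
  · exact (pullback.lift_fst _ _ _).symm
  · exact IsPullback.of_hasPullback _ _

instance surjective_π : Surjective (π p q u) :=
  MorphismProperty.of_isPullback (isPullback_π p q u) inferInstance

include hdom hrad hu in
/-- The base change of `N ⟶ Y` to `Spec V` is universally injective. -/
theorem universallyInjective_snd
    (hcomp : ∀ Z ∈ irreducibleComponents ↥(pullback (p ≫ q) u),
      Dense ((pullback.snd (p ≫ q) u).base '' Z)) :
    UniversallyInjective (pullback.snd q u) := by
  have haff : IsAffine (pullback q u) := isAffine_of_isAffineHom (pullback.snd q u)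
  let θ : Spec X.functionField ⟶ pullback q u := θX (p ≫ q) hdom u hu ≫ π p q u
  let pt : Spec X.functionField := IsLocalRing.closedPoint X.functionField
  have hθ : θ ≫ pullback.snd q u = ρ (p ≫ q) hdom ≫ ιV (V := V) := by
    have h : π p q u ≫ pullback.snd q u = pullback.snd (p ≫ q) u := pullback.lift_snd _ _ _
    rw [Category.assoc, h, θX_snd]
  let φ : Y.functionField →+* X.functionField :=
      CohIII.stalkToFunctionField (p ≫ q) (genericPoint Y) hdom
  refine universallyInjective_of_pow (pullback.snd q u) (ringExpChar X.functionField) ?_ (θ pt) ?_ ?_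
  · refine (expChar_is_prime_or_one X.functionField (ringExpChar X.functionField)).symm.imp id
      (fun hp => ⟨hp, ?_⟩)
    have h1 : ((ringExpChar X.functionField : ℕ) : X.functionField) = 0 := by
      have h2 := hp.two_le
      have h3 : ringExpChar X.functionField = ringChar X.functionField := by
        unfold ringExpChar at h2 ⊢
        omega
      rw [h3]
      exact ringChar.Nat.cast_ringChar
    have h2 : ((ringExpChar X.functionField : ℕ) : V) = 0 := by
      apply IsFractionRing.injective V Y.functionField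
      apply φ.injective
      rw [map_natCast, map_natCast, h1, map_zero, map_zero]
    have h3 := congrArg (fun v : V => ((pullback.snd q u).appTop.hom
      ((Scheme.ΓSpecIso (CommRingCat.of V)).inv.hom v))) h2
    simpa using h3
  · intro z
    obtain ⟨z', rfl⟩ := (π p q u).surjective z
    have h1 := x₀_specializes (p ≫ q) hdom u hu hcomp z'
    exact h1.map (π p q u).continuous
  · intro c
    -- the value of `c` in `R(X)`
    let ev : Γ(pullback q u, ⊤) →+* X.functionField :=
      ((Scheme.ΓSpecIso X.functionField).hom.hom).comp θ.appTop.hom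
    have hev : ∀ v : V, ev ((pullback.snd q u).appTop ((Scheme.ΓSpecIso (CommRingCat.of V)).inv v)) =
        φ (algebraMap V Y.functionField v) := by
      intro v
      change ((Scheme.ΓSpecIso (CommRingCat.of V)).inv ≫ (pullback.snd q u).appTop ≫ θ.appTop ≫
        (Scheme.ΓSpecIso X.functionField).hom).hom v = _
      rw [← Scheme.Hom.comp_appTop_assoc, hθ]
      have h1 : ρ (p ≫ q) hdom ≫ ιV (V := V) = Spec.map (CommRingCat.ofHom
        (algebraMap V Y.functionField) ≫ (Y.presheaf.stalkSpecializes hdom ≫
          (p ≫ q).stalkMap (genericPoint X))) := (Spec.map_comp _ _).symm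
      rw [h1, ← Scheme.ΓSpecIso_inv_naturality_assoc]
      simp only [Iso.inv_hom_id, Category.comp_id]
      rfl
    have hint : (φ.comp (algebraMap V Y.functionField)).IsIntegralElem (ev c) := by
      obtain ⟨P, hP, hP0⟩ := IsIntegralHom.isIntegral_app (pullback.snd q u) ⊤ (isAffineOpen_top _) c
      refine ⟨P.map (Scheme.ΓSpecIso (CommRingCat.of V)).hom.hom, hP.map _, ?_⟩
      rw [Polynomial.eval₂_map]
      have h1 : (φ.comp (algebraMap V Y.functionField)).comp
          (Scheme.ΓSpecIso (CommRingCat.of V)).hom.hom = ev.comp (pullback.snd q u).appTop.hom := by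
        ext w
        have h2 := hev ((Scheme.ΓSpecIso (CommRingCat.of V)).hom.hom w)
        simp only [RingHom.comp_apply]
        rw [← h2]
        simp
      rw [h1]
      refine (Polynomial.hom_eval₂ P _ ev c).symm.trans ?_
      refine (congrArg ev hP0).trans (map_zero ev)
    obtain ⟨e, r, hr⟩ := hrad (ev c) (exists_poly φ hint)
    obtain ⟨v, hv⟩ := exists_of_pow_mem φ hint hr
    refine ⟨e, (Scheme.ΓSpecIso (CommRingCat.of V)).inv v, ?_⟩
    intro hmem
    have h1 : pt ∈ θ ⁻¹ᵁ (pullback q u).basicOpen (c ^ ringExpChar X.functionField ^ e -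
      (pullback.snd q u).appTop ((Scheme.ΓSpecIso (CommRingCat.of V)).inv v)) := hmem
    have h2 : θ.appTop (c ^ ringExpChar X.functionField ^ e -
      (pullback.snd q u).appTop ((Scheme.ΓSpecIso (CommRingCat.of V)).inv v)) = 0 := by
      have h3 : ev (c ^ ringExpChar X.functionField ^ e -
        (pullback.snd q u).appTop ((Scheme.ΓSpecIso (CommRingCat.of V)).inv v)) = 0 := by
        rw [map_sub, map_pow, hev, hv, sub_self]
      have h5 : Function.Injective (Scheme.ΓSpecIso X.functionField).hom.hom :=
        ((Scheme.ΓSpecIso X.functionField).commRingCatIsoToRingEquiv).injective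
      exact h5 (h3.trans (map_zero _).symm)
    have h4 := Scheme.preimage_basicOpen θ (U := ⊤) (c ^ ringExpChar X.functionField ^ e -
      (pullback.snd q u).appTop ((Scheme.ΓSpecIso (CommRingCat.of V)).inv v))
    rw [h4] at h1
    have h5 : (Spec X.functionField).basicOpen (θ.app ⊤ (c ^ ringExpChar X.functionField ^ e -
      (pullback.snd q u).appTop ((Scheme.ΓSpecIso (CommRingCat.of V)).inv v))) = ⊥ := by
      rw [basicOpen_eq_bot_iff]
      exact h2
    rw [h5] at h1
    exact h1.elim

end Main

section Descent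

variable {Y N : Scheme.{u}} (q : N ⟶ Y)

/-- Universal injectivity can be checked after base change to `Z y ⟶ Y` hitting `y`. -/
theorem universallyInjective_of_points
    (h : ∀ y : Y, ∃ (Z : Scheme.{u}) (u : Z ⟶ Y), y ∈ Set.range u ∧
      UniversallyInjective (pullback.snd q u)) : UniversallyInjective q := by
  refine ((tfae_universallyInjective q).out 0 1).mpr ?_
  intro K _ g₁ g₂ hg
  have hg' : g₁ ≫ q = g₂ ≫ q := hg
  obtain ⟨Z, u, ⟨z, hz⟩, hu⟩ := h ((g₁ ≫ q) (IsLocalRing.closedPoint K))
  obtain ⟨t, -, -⟩ := Scheme.Pullback.exists_preimage_pullback (f := g₁ ≫ q) (g := u)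
    (IsLocalRing.closedPoint K) z hz.symm
  let L := (pullback (g₁ ≫ q) u).residueField t
  let τ : Spec L ⟶ pullback (g₁ ≫ q) u := (pullback (g₁ ≫ q) u).fromSpecResidueField t
  let a : Spec L ⟶ Spec (.of K) := τ ≫ pullback.fst _ _
  let b : Spec L ⟶ Z := τ ≫ pullback.snd _ _
  have hab : a ≫ g₁ ≫ q = b ≫ u := by
    rw [Category.assoc, Category.assoc, pullback.condition]
  have hab₂ : a ≫ g₂ ≫ q = b ≫ u := by rw [← hg', hab]
  let c₁ : Spec L ⟶ pullback q u := pullback.lift (a ≫ g₁) b (by rw [Category.assoc, hab])
  let c₂ : Spec L ⟶ pullback q u := pullback.lift (a ≫ g₂) b (by rw [Category.assoc, hab₂])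
  have h1 : c₁ = c₂ := by
    have h2 : ∀ (K : Type u) [Field K],
        Function.Injective (fun g : Spec (.of K) ⟶ pullback q u ↦ g ≫ pullback.snd q u) :=
      ((tfae_universallyInjective (pullback.snd q u)).out 0 1).mp hu
    apply h2 L
    change c₁ ≫ pullback.snd q u = c₂ ≫ pullback.snd q u
    rw [pullback.lift_snd, pullback.lift_snd]
  have h2 : a ≫ g₁ = a ≫ g₂ := by
    have h3 := congrArg (fun c => c ≫ pullback.fst q u) h1
    simpa only [c₁, c₂, pullback.lift_fst] using h3
  have h4 : Flat a := inferInstance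
  have h5 : Surjective a := inferInstance
  have h6 : Epi a := Flat.epi_of_flat_of_surjective a
  exact (cancel_epi a).mp h2

end Descent

section Geom

variable {X Y N : Scheme.{u}} (p : X ⟶ N) (q : N ⟶ Y)

/-- A geometrically connected morphism followed by a radicial surjective one is geometrically connected. -/
theorem geometricallyConnected_comp [GeometricallyConnected p] [UniversallyInjective q]
    [Surjective q] : GeometricallyConnected (p ≫ q) := by
  refine ⟨geometrically_iff_of_isClosedUnderIsomorphisms.mpr fun K _ x ↦ ?_⟩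
  rw [← (pullbackRightPullbackFstIso q x p).hom.homeomorph.connectedSpace_iff]
  have h1 : Subsingleton ↥(pullback q x) := by
    have h2 : UniversallyInjective (pullback.snd q x) :=
      MorphismProperty.pullback_snd q x inferInstance
    exact (pullback.snd q x).injective.subsingleton
  have h2 : Nonempty ↥(pullback q x) := by
    obtain ⟨z, -⟩ := (pullback.snd q x).surjective (IsLocalRing.closedPoint K)
    exact ⟨z⟩
  exact GeometricallyConnected.connectedSpace_of_subsingleton (pullback.snd p (pullback.fst q x))

end Geom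

end Groth.Agent.Coherent.K46.RadStein
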