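import Groth.Agent.EGA2.K37.TwistQCoh
import Groth.Agent.EGA2.K35.RelProjBasic
import Groth.Agent.Ega3B.TwistCoh
import Groth.Agent.PerfA.CohExtGlue
import Groth.Agent.PerfA.CohSerre

/-!
# Coherence of the twisting sheaves of a Noetherian graded ring and of a relative Proj
-/

set_option autoImplicit false
set_option maxHeartbeats 400000
universe u

open CategoryTheory CategoryTheory.Limits AlgebraicGeometry TopologicalSpace Opposite
open scoped HomogeneousIdeal

noncomputable section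

namespace Groth.Agent.Coherent.K46.RelTwCoh

section abs

variable {A σ : Type u} [CommRing A] [SetLike σ A] [AddSubgroupClass σ A] (𝒜 : ℕ → σ) [GradedRing 𝒜]

/-- `O(n)` is coherent on `Proj 𝒜` for a Noetherian ring graded by any family of additive subgroups. -/
theorem isCoh_twist [IsNoetherianRing A] (n : ℤ) : Coh.IsCoh (GrTwist.twist 𝒜 n) := by
  let _ : Algebra (𝒜 0) A := (SetLike.GradeZero.subring 𝒜).subtype.toAlgebra
  have h0 : ∀ r : 𝒜 0, algebraMap (𝒜 0) A r ∈ 𝒜 0 := fun r => r.2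
  have : IsIso (Proj.map (_root_.K35.Regrade.toSub 𝒜 h0) (_root_.K35.Regrade.irr_toSub 𝒜 h0)) :=
    (_root_.K35.Regrade.projIso 𝒜 h0).isIso_hom
  have h1 : Coh.IsCoh (GrTwist.twist (_root_.K35.Regrade.subm 𝒜 h0) n) :=
    Groth.Agent.Ega3B.TwistCoh.isCoh_twist (_root_.K35.Regrade.subm 𝒜 h0) n
  have e : (GrTwist.twist 𝒜 n).restrict (Proj.map (_root_.K35.Regrade.toSub 𝒜 h0) (_root_.K35.Regrade.irr_toSub 𝒜 h0)) ≅
      GrTwist.twist (_root_.K35.Regrade.subm 𝒜 h0) n :=
    _root_.K34.OpenMap.restrictIso _ (GrTwist.comap (_root_.K35.Regrade.toSub 𝒜 h0) (_root_.K35.Regrade.irr_toSub 𝒜 h0) n)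
      fun W _ => _root_.K37.TwistQCoh.comapApp_bijective _ _ (_root_.K35.Regrade.ofSub 𝒜 h0) (_root_.K35.Regrade.irr_ofSub 𝒜 h0)
        (fun _ => rfl) (fun _ => rfl) n W
  refine Groth.Agent.PerfA.CohExtGlue.isCoh_of_restrict_gen _ fun x => ?_
  obtain ⟨y, hy⟩ := (Proj.map (_root_.K35.Regrade.toSub 𝒜 h0) (_root_.K35.Regrade.irr_toSub 𝒜 h0)).homeomorph.surjective x
  exact ⟨_, _, inferInstance, y, hy, Groth.Agent.PerfA.CohSerre.isCoh_of_iso e.symm h1⟩

end abs

/-- The ring of sections of an algebra of finite type over an affine open of a locally Noetherian scheme. -/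
theorem isNoetherianRing_sec {Y : Scheme.{u}} [IsLocallyNoetherian Y] (𝒮 : RelProj.QCGrAlg Y)
    (U : Y.Opens) (hU : IsAffineOpen U) (hft : (𝒮.str.app (op U)).hom.FiniteType) :
    IsNoetherianRing (𝒮.presheaf.obj (op U)) := by
  have h1 : IsNoetherianRing Γ(Y, U) := IsLocallyNoetherian.component_noetherian ⟨U, hU⟩
  let _ := (𝒮.str.app (op U)).hom.toAlgebra
  have h2 : Algebra.FiniteType Γ(Y, U) (𝒮.presheaf.obj (op U)) := hft
  exact Algebra.FiniteType.isNoetherianRing Γ(Y, U) (𝒮.presheaf.obj (op U))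

theorem isCoh_relTwist {Y P : Scheme.{u}} [IsLocallyNoetherian Y] (𝒮 : RelProj.QCGrAlg Y)
    (hft : ∀ (U : Y.Opens), IsAffineOpen U → (𝒮.str.app (op U)).hom.FiniteType) (p : P ⟶ Y)
    (chart : ∀ (U : Y.Opens) (hU : IsAffineOpen U), (((p ⁻¹ᵁ U : P.Opens) : Scheme.{u}) ≅ Proj (𝒮.deg U hU)))
    (n : ℤ) (L : P.Modules)
    (lam : ∀ (U : Y.Opens) (hU : IsAffineOpen U),
      L ⟶ (Scheme.Modules.pushforward (RelProj.emb p chart U hU)).obj (GrTwist.twist (𝒮.deg U hU) n))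
    (hL : RelProj.IsRelTwist 𝒮 p chart n L lam) : Coh.IsCoh L := by
  refine Groth.Agent.PerfA.CohExtGlue.isCoh_of_restrict_gen L fun x => ?_
  obtain ⟨U, hU, y, hy⟩ := _root_.K35.RelProjBasic.exists_emb (chart := chart) x
  have e := _root_.K34.OpenMap.restrictIso (RelProj.emb p chart U hU) (lam U hU) fun W hW =>
    hL.bijective U hU W (by rwa [_root_.K35.RelProjBasic.opensRange_emb] at hW)
  have := isNoetherianRing_sec 𝒮 U hU (hft U hU)
  exact ⟨_, RelProj.emb p chart U hU, inferInstance, y, hy,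
    Groth.Agent.PerfA.CohSerre.isCoh_of_iso e.symm (isCoh_twist (𝒮.deg U hU) n)⟩

end Groth.Agent.Coherent.K46.RelTwCoh
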