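import Groth.Agent.Coherent.K46.GrTF
import Groth.Agent.Coherent.K46.RelTwCoh
import Groth.Agent.EGA2.K39.RelBase
import Groth.Agent.EGA2.K35.RelProjBasic
import Groth.Agent.EGA2.K35.ProjBasicZero

/-!
# A uniform bound for the bijectivity of `ℳ(U)_n → Γ(Proj 𝒮(U), ℳ(U)(n)~)`, `U` affine open

* `exists_ext`, `exists_pow_smul`: sections of `M(n)~` over `D_+(c)`, `c` of degree `0`, `Proj` quasi-compact;
* `bijective_of_isLocHom`: bijectivity of `α_n` passes to a localization at an element of degree `0`;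
* `bijective_of_cover`: and can be checked after a family of localizations;
* `exists_uniform`: the uniform bound.
-/

set_option autoImplicit false
set_option maxHeartbeats 400000
set_option linter.unusedSectionVars false
universe u

open CategoryTheory CategoryTheory.Limits AlgebraicGeometry TopologicalSpace Opposite
open scoped HomogeneousIdeal

noncomputable section

namespace Groth.Agent.Coherent.K46.RelAlpha

open K39.GrSect K39.GrFrac K39.GrQCoh K39.GrComap Groth.Agent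

section abs

variable {A σ : Type u} [CommRing A] [SetLike σ A] [AddSubgroupClass σ A] {𝒜 : ℕ → σ} [GradedRing 𝒜]
variable {M τ : Type u} [AddCommGroup M] [Module A M] [SetLike τ M] [AddSubgroupClass τ M] {ℳ : ℕ → τ}
  [SetLike.GradedSMul 𝒜 ℳ] [DirectSum.Decomposition ℳ]

variable (𝒜) in
theorem compactSpace_proj [IsNoetherianRing A] : CompactSpace (Proj 𝒜) := by
  obtain ⟨r, g, d₀, hd₀, hg, hD⟩ := GrTF.exists_generators 𝒜
  refine ⟨?_⟩
  have h : (Set.univ : Set (Proj 𝒜)) = ⋃ i : Fin r, ((Proj.basicOpen 𝒜 (g i) : (Proj 𝒜).Opens) : Set (Proj 𝒜)) := by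
    refine (Set.eq_univ_of_forall fun x => ?_).symm
    obtain ⟨i, hi⟩ := GrSec.exists_gen_notMem 𝒜 g hD x
    exact Set.mem_iUnion.mpr ⟨i, hi⟩
  rw [h]
  exact isCompact_iUnion fun i => (Proj.isAffineOpen_basicOpen 𝒜 (g i) (hg i) hd₀).isCompact

/-- The function defined by an element of degree `0`. -/
def fn {c : A} (hc : c ∈ 𝒜 0) : Γ(Proj 𝒜, (⊤ : (Proj 𝒜).Opens)) :=
  ofrac ⊤ hc (SetLike.GradedOne.one_mem : (1 : A) ∈ 𝒜 0) (NV.one ⊤)

theorem basicOpen_fn {c : A} (hc : c ∈ 𝒜 0) : Proj.basicOpen 𝒜 c = (Proj 𝒜).basicOpen (fn hc) := by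
  ext x
  exact ((mem_basicOpen_iff (fn hc) ⟨x, trivial⟩).trans (isUnit_mk_iff x c 1 (one_notMem x))).symm

theorem smul_oval_fn {c : A} (hc : c ∈ 𝒜 0) (k : ℕ) (x : ProjectiveSpectrum 𝒜) (q : GrMod.LocMod 𝒜 (M := M) x) :
    oval (fn hc ^ k) ⟨x, trivial⟩ • q = c ^ k • q := by
  rw [oval_pow]
  induction q using LocalizedModule.induction_on with
  | h m s =>
    change Localization.mk c (⟨1, _⟩ : x.asHomogeneousIdeal.toIdeal.primeCompl) ^ k • _ = _
    rw [Localization.mk_pow, LocalizedModule.mk_smul_mk, LocalizedModule.smul'_mk]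
    exact mk_eq_of_smul_eq 1 (one_notMem x) (by simp)

theorem exists_ext [CompactSpace (Proj 𝒜)] {n : ℤ} {c : A} (hc : c ∈ 𝒜 0)
    (t : Γ(GrMod.tilde 𝒜 ℳ n, Proj.basicOpen 𝒜 c)) :
    ∃ (k : ℕ) (t' : Γ(GrMod.tilde 𝒜 ℳ n, (⊤ : (Proj 𝒜).Opens))), ∀ x : (Proj.basicOpen 𝒜 c : (Proj 𝒜).Opens),
      gval t' ⟨x.1, trivial⟩ = c ^ k • gval t x := by
  obtain ⟨k, t', h⟩ := (Ega1.QCohLoc.isLocAt_of_qcqs (isQCoh_tilde (𝒜 := 𝒜) (ℳ := ℳ) n) (V := ⊤)
    isCompact_univ isQuasiSeparated_univ (fn hc)).surj' (basicOpen_fn hc) le_top t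
  refine ⟨k, t', fun x => ?_⟩
  have h1 := congrArg (fun z : Γ(GrMod.tilde 𝒜 ℳ n, Proj.basicOpen 𝒜 c) => gval z x) h
  refine h1.trans ?_
  refine (gval_smul _ _ x).trans ?_
  rw [← smul_oval_fn hc k x.1, oval_pow, oval_pow]
  rfl

theorem exists_pow_smul [CompactSpace (Proj 𝒜)] {n : ℤ} {c : A} (hc : c ∈ 𝒜 0)
    (t : Γ(GrMod.tilde 𝒜 ℳ n, (⊤ : (Proj 𝒜).Opens)))
    (h : ∀ x : (Proj.basicOpen 𝒜 c : (Proj 𝒜).Opens), gval t ⟨x.1, trivial⟩ = 0) :
    ∃ k : ℕ, ∀ x : ProjectiveSpectrum 𝒜, c ^ k • gval t ⟨x, trivial⟩ = 0 := by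
  obtain ⟨k, hk⟩ := (Ega1.QCohLoc.isLocAt_of_qcqs (isQCoh_tilde (𝒜 := 𝒜) (ℳ := ℳ) n) (V := ⊤)
    isCompact_univ isQuasiSeparated_univ (fn hc)).inj' (basicOpen_fn hc) le_top t
    (gval_ext fun x => h x)
  refine ⟨k, fun x => ?_⟩
  have h1 := congrArg (fun z : Γ(GrMod.tilde 𝒜 ℳ n, (⊤ : (Proj 𝒜).Opens)) => gval z ⟨x, trivial⟩) hk
  rw [← smul_oval_fn hc k x]
  exact h1

/-- The section `m / 1`. -/
def sec {n : ℕ} {m : M} (hm : m ∈ ℳ n) : Γ(GrMod.tilde 𝒜 ℳ (n : ℤ), (⊤ : (Proj 𝒜).Opens)) :=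
  GrMod.alpha 𝒜 ℳ n ⟨m, hm⟩

omit [DirectSum.Decomposition ℳ] in
theorem gval_sec {n : ℕ} {m : M} (hm : m ∈ ℳ n) (x : ProjectiveSpectrum 𝒜) :
    gval (sec (𝒜 := 𝒜) hm) ⟨x, trivial⟩ = LocalizedModule.mk m 1 := rfl

omit [DirectSum.Decomposition ℳ] in
variable (𝒜 ℳ) in
/-- Bijectivity of `α_n`, elementwise. -/
theorem bijective_iff (n : ℕ) : Function.Bijective (GrMod.alpha 𝒜 ℳ n) ↔
    (∀ m ∈ ℳ n, (∀ x : ProjectiveSpectrum 𝒜, (LocalizedModule.mk m 1 : GrMod.LocMod 𝒜 (M := M) x) = 0) → m = 0) ∧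
    (∀ t : Γ(GrMod.tilde 𝒜 ℳ (n : ℤ), (⊤ : (Proj 𝒜).Opens)), ∃ m ∈ ℳ n, ∀ x : ProjectiveSpectrum 𝒜,
      gval t ⟨x, trivial⟩ = LocalizedModule.mk m 1) := by
  constructor
  · rintro ⟨h1, h2⟩
    refine ⟨fun m hm h => ?_, fun t => ?_⟩
    · have h3 : (⟨m, hm⟩ : ℳ n) = 0 := by
        apply h1
        refine gval_ext fun x => ?_
        refine (h x.1).trans ?_
        exact (LocalizedModule.zero_mk _).symm
      exact congrArg Subtype.val h3
    · obtain ⟨m, rfl⟩ := h2 t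
      exact ⟨m, m.2, fun x => rfl⟩
  · rintro ⟨h1, h2⟩
    refine ⟨fun a b hab => Subtype.ext (sub_eq_zero.mp (h1 _ (sub_mem a.2 b.2) fun x => ?_)), fun t => ?_⟩
    · have h3 := congrArg (fun z : Γ(GrMod.tilde 𝒜 ℳ (n : ℤ), (⊤ : (Proj 𝒜).Opens)) => gval z ⟨x, trivial⟩) hab
      have h4 : (LocalizedModule.mk (a : M) 1 : GrMod.LocMod 𝒜 (M := M) x) = LocalizedModule.mk (b : M) 1 := h3
      rw [← LocalizedModule.zero_mk (1 : x.asHomogeneousIdeal.toIdeal.primeCompl), LocalizedModule.mk_eq]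
      obtain ⟨u, hu⟩ := LocalizedModule.mk_eq.mp h4
      refine ⟨u, ?_⟩
      rw [one_smul, one_smul] at hu
      rw [one_smul, smul_sub, hu, sub_self, smul_zero, smul_zero]
    · obtain ⟨m, hm, h⟩ := h2 t
      exact ⟨⟨m, hm⟩, gval_ext fun x => (h x.1).symm⟩

variable {B σ' : Type u} [CommRing B] [SetLike σ' B] [AddSubgroupClass σ' B] {ℬ : ℕ → σ'} [GradedRing ℬ]
variable {N τ' : Type u} [AddCommGroup N] [Module B N] [SetLike τ' N] [AddSubgroupClass τ' N] {𝒩 : ℕ → τ'}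
  [SetLike.GradedSMul ℬ 𝒩] [DirectSum.Decomposition 𝒩]
variable {ψ : 𝒜 →+*ᵍ ℬ} (hψ : ℬ₊ ≤ (𝒜₊).map ψ) {v : M →ₛₗ[ψ.toRingHom] N}
  (hv : ∀ (i : ℕ) (m : M), m ∈ ℳ i → v m ∈ 𝒩 i)

/-- The inverse of a unit of degree `0` has degree `0`. -/
theorem exists_inv {b : B} (hb : b ∈ ℬ 0) (hu : IsUnit b) : ∃ b' ∈ ℬ 0, b' * b = 1 := by
  obtain ⟨b', hb'⟩ := hu.exists_left_inv
  refine ⟨GrSecAlg.cmp ℬ 0 b', GrSecAlg.cmp_mem ℬ 0 b', ?_⟩
  have h1 := GrSecAlg.cmp_smul_of_mem ℬ ℬ hb 0 b'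
  have h2 : GrSecAlg.cmp ℬ (0 + 0) (b' • b) = b' • b := by
    rw [smul_eq_mul, hb']
    exact GrSecAlg.cmp_same ℬ (SetLike.GradedOne.one_mem : (1 : B) ∈ ℬ 0)
  rw [h2] at h1
  rw [← hb']
  exact h1.symm

include hv in
/-- **Bijectivity of `α_n` passes to the localization at an element of degree `0`.** -/
theorem bijective_of_isLocHom [CompactSpace (Proj 𝒜)] {c : A} (h : IsLocHom ψ v c)
    [IsOpenImmersion (Proj.map ψ hψ)] (hr : Proj.basicOpen 𝒜 c ≤ (Proj.map ψ hψ).opensRange) {n : ℕ}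
    (hα : Function.Bijective (GrMod.alpha 𝒜 ℳ n)) : Function.Bijective (GrMod.alpha ℬ 𝒩 n) := by
  rw [bijective_iff] at hα ⊢
  obtain ⟨h1, h2⟩ := hα
  refine ⟨fun b hb hb0 => ?_, fun t => ?_⟩
  · obtain ⟨k, m, hm, hkm⟩ := h.exists_of_memM hv hb
    have h3 : ∀ x : (Proj.basicOpen 𝒜 c : (Proj 𝒜).Opens), gval (sec (𝒜 := 𝒜) hm) ⟨x.1, trivial⟩ = 0 := by
      intro x
      obtain ⟨y, hy⟩ := hr x.2
      obtain ⟨x, hx⟩ := x
      obtain rfl : ProjectiveSpectrum.comap ψ hψ y = x := hy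
      apply h.locModMap_injective hψ y
      rw [gval_sec, map_zero, GrMod.locModMap_mk]
      have h4 : (LocalizedModule.mk (v m) 1 : GrMod.LocMod ℬ (M := N) y) = 0 := by
        rw [← hkm, ← LocalizedModule.smul'_mk, hb0 y, smul_zero]
      refine Eq.trans ?_ h4
      exact mk_eq_of_smul_eq 1 (one_notMem y) (by simp)
    obtain ⟨j, hj⟩ := exists_pow_smul h.mem (sec (𝒜 := 𝒜) hm) h3
    have hcm : c ^ j • m ∈ ℳ n := by
      have := smul_mem_add 𝒜 (h.pow_mem j) hm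
      rwa [zero_add] at this
    have h4 : c ^ j • m = 0 := h1 _ hcm fun x => by
      rw [← hj x, gval_sec, LocalizedModule.smul'_mk]
    have h5 : ψ c ^ j • v m = 0 := by
      have := congrArg v h4
      rw [LinearMap.map_smulₛₗ, map_zero] at this
      rw [← map_pow]
      exact this
    have h6 : ψ c ^ (j + k) • b = 0 := by rw [pow_add, mul_smul, hkm, h5]
    exact (h.unit.pow (j + k)).smul_eq_zero.mp h6
  · obtain ⟨s, hs⟩ := (comap_app_bijective hψ hv h (n : ℤ) hr).2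
      (FormalB.GlueHom.res (GrMod.tilde ℬ 𝒩 (n : ℤ)) (le_top : Proj.map ψ hψ ⁻¹ᵁ Proj.basicOpen 𝒜 c ≤ ⊤) t)
    have hmem : ∀ y : ProjectiveSpectrum ℬ, y ∈ (Proj.map ψ hψ ⁻¹ᵁ Proj.basicOpen 𝒜 c : (Proj ℬ).Opens) :=
      fun y => h.notMem hψ y
    have hval : ∀ y : ProjectiveSpectrum ℬ, gval t ⟨y, trivial⟩ =
        GrMod.locModMap ψ hψ v y (gval s ⟨ProjectiveSpectrum.comap ψ hψ y, hmem y⟩) := by
      intro y
      have := congrArg (fun z : Γ(GrMod.tilde ℬ 𝒩 (n : ℤ), Proj.map ψ hψ ⁻¹ᵁ Proj.basicOpen 𝒜 c) =>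
        gval z ⟨y, hmem y⟩) hs
      exact this.symm
    obtain ⟨k, t', ht'⟩ := exists_ext h.mem s
    obtain ⟨m, hm, hm'⟩ := h2 t'
    obtain ⟨b, hb, hbc⟩ := exists_inv (h.map_pow_mem k) (h.unit.pow k)
    refine ⟨b • v m, ?_, fun y => ?_⟩
    · have := smul_mem_add ℬ hb (hv n m hm)
      rwa [zero_add] at this
    · have h3 := ht' ⟨ProjectiveSpectrum.comap ψ hψ y, hmem y⟩
      rw [hm'] at h3
      have h4 := congrArg (GrMod.locModMap ψ hψ v y) h3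
      rw [GrMod.locModMap_mk] at h4
      have h5 : ∀ q, GrMod.locModMap ψ hψ v y (c ^ k • q) = ψ c ^ k • GrMod.locModMap ψ hψ v y q := by
        intro q
        induction q using LocalizedModule.induction_on with
        | h a s =>
          rw [LocalizedModule.smul'_mk, GrMod.locModMap_mk, GrMod.locModMap_mk, LocalizedModule.smul'_mk,
            LinearMap.map_smulₛₗ, ← map_pow]
          rfl
      rw [h5, ← hval y] at h4
      rw [← LocalizedModule.smul'_mk]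
      have h6 : (LocalizedModule.mk (v m) 1 : GrMod.LocMod ℬ (M := N) y) = ψ c ^ k • gval t ⟨y, trivial⟩ := by
        refine Eq.trans ?_ h4
        exact mk_eq_of_smul_eq 1 (one_notMem y) (by simp)
      rw [h6, smul_smul, hbc, one_smul]

theorem locModMap_pow_smul (y : ProjectiveSpectrum ℬ) (c : A) (k : ℕ)
    (q : GrMod.LocMod 𝒜 (M := M) (ProjectiveSpectrum.comap ψ hψ y)) :
    GrMod.locModMap ψ hψ v y (c ^ k • q) = ψ c ^ k • GrMod.locModMap ψ hψ v y q := by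
  induction q using LocalizedModule.induction_on with
  | h a s =>
    rw [LocalizedModule.smul'_mk, GrMod.locModMap_mk, GrMod.locModMap_mk, LocalizedModule.smul'_mk,
      LinearMap.map_smulₛₗ, ← map_pow]
    rfl

theorem locModMap_mk_one (y : ProjectiveSpectrum ℬ) (m : M) :
    GrMod.locModMap ψ hψ v y (LocalizedModule.mk m 1) = LocalizedModule.mk (v m) 1 := by
  rw [GrMod.locModMap_mk]
  exact mk_eq_of_smul_eq 1 (one_notMem y) (by simp)

include hψ hv in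
/-- An element of degree `n` all of whose fractions vanish is killed by a power of `c` if `α_n` is injective after
the localization at `c`. -/
theorem exists_pow_smul_eq_zero {c : A} (h : IsLocHom ψ v c) {n : ℕ}
    (hβ : Function.Bijective (GrMod.alpha ℬ 𝒩 n)) {m : M} (hm : m ∈ ℳ n)
    (h0 : ∀ x : ProjectiveSpectrum 𝒜, (LocalizedModule.mk m 1 : GrMod.LocMod 𝒜 (M := M) x) = 0) :
    ∃ k : ℕ, c ^ k • m = 0 := by
  rw [bijective_iff] at hβ
  refine h.injM m (hβ.1 _ (hv n m hm) fun y => ?_)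
  rw [← locModMap_mk_one hψ y m, h0, map_zero]

include hv in
/-- A section of `M(n)~` comes from `M_n` up to a power of `c` if `α_n` is surjective after the localization at `c`. -/
theorem exists_pow_smul_eq [CompactSpace (Proj 𝒜)] {c : A} (h : IsLocHom ψ v c)
    (hr : ∀ x : ProjectiveSpectrum 𝒜, c ∉ x.asHomogeneousIdeal → ∃ y, ProjectiveSpectrum.comap ψ hψ y = x) {n : ℕ}
    (hβ : Function.Bijective (GrMod.alpha ℬ 𝒩 n))
    (t : Γ(GrMod.tilde 𝒜 ℳ (n : ℤ), (⊤ : (Proj 𝒜).Opens))) :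
    ∃ (k : ℕ) (m : M), m ∈ ℳ n ∧ ∀ x : ProjectiveSpectrum 𝒜,
      c ^ k • gval t ⟨x, trivial⟩ = LocalizedModule.mk m 1 := by
  rw [bijective_iff] at hβ
  obtain ⟨b, hb, hb'⟩ := hβ.2 (((GrMod.comap ψ hψ v hv (n : ℤ)).app ⊤) t)
  obtain ⟨k, m, hm, hkm⟩ := h.exists_of_memM hv hb
  have h1 : ∀ x : ProjectiveSpectrum 𝒜, c ∉ x.asHomogeneousIdeal →
      c ^ k • gval t ⟨x, trivial⟩ = LocalizedModule.mk m 1 := by
    intro x hx
    obtain ⟨y, rfl⟩ := hr x hx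
    apply h.locModMap_injective hψ y
    rw [locModMap_mk_one, locModMap_pow_smul, ← hkm, ← LocalizedModule.smul'_mk, ← hb' y]
    rfl
  obtain ⟨l, hl⟩ := exists_pow_smul h.mem (fn h.mem ^ k • t - sec hm) fun x => by
    have h2 := h1 x.1 x.2
    rw [← smul_oval_fn h.mem] at h2
    exact sub_eq_zero.mpr h2
  refine ⟨l + k, c ^ l • m, ?_, fun x => ?_⟩
  · have := smul_mem_add 𝒜 (h.pow_mem l) hm
    rwa [zero_add] at this
  · have h3 : c ^ l • (c ^ k • gval t ⟨x, trivial⟩ - LocalizedModule.mk m 1) = 0 := by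
      rw [← smul_oval_fn h.mem k]
      exact hl x
    rw [smul_sub, sub_eq_zero, LocalizedModule.smul'_mk, smul_smul, ← pow_add] at h3
    exact h3

theorem one_mem_of_span {R : Type u} [CommRing R] (I : Ideal R) (s : Set R) (hs : Ideal.span s = ⊤)
    (h : ∀ r ∈ s, ∃ k : ℕ, r ^ k ∈ I) : (1 : R) ∈ I := by
  have h1 : I.radical = ⊤ := by
    rw [← top_le_iff, ← hs, Ideal.span_le]
    exact fun r hr => h r hr
  rw [← Ideal.eq_top_iff_one]
  exact Ideal.radical_eq_top.mp h1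

theorem mk_add_mk_one (x : ProjectiveSpectrum 𝒜) (m m' : M) :
    (LocalizedModule.mk m 1 + LocalizedModule.mk m' 1 : GrMod.LocMod 𝒜 (M := M) x) =
      LocalizedModule.mk (m + m') 1 := by
  rw [LocalizedModule.mk_add_mk]
  exact mk_eq_of_smul_eq 1 (one_notMem x) (by simp)

omit [DirectSum.Decomposition ℳ] in
theorem bijective_of_span_aux {R : Type u} [CommRing R] (f : R →+* A) (hf : ∀ r, f r ∈ 𝒜 0)
    (s : Set R) (hs : Ideal.span s = ⊤) {n : ℕ}
    (h1 : ∀ r ∈ s, ∀ m ∈ ℳ n, (∀ x : ProjectiveSpectrum 𝒜, (LocalizedModule.mk m 1 : GrMod.LocMod 𝒜 (M := M) x) = 0) →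
      ∃ k : ℕ, f r ^ k • m = 0)
    (h2 : ∀ r ∈ s, ∀ t : Γ(GrMod.tilde 𝒜 ℳ (n : ℤ), (⊤ : (Proj 𝒜).Opens)), ∃ (k : ℕ) (m : M), m ∈ ℳ n ∧
      ∀ x : ProjectiveSpectrum 𝒜, f r ^ k • gval t ⟨x, trivial⟩ = LocalizedModule.mk m 1) :
    (∀ m ∈ ℳ n, (∀ x : ProjectiveSpectrum 𝒜, (LocalizedModule.mk m 1 : GrMod.LocMod 𝒜 (M := M) x) = 0) → m = 0) ∧
    (∀ t : Γ(GrMod.tilde 𝒜 ℳ (n : ℤ), (⊤ : (Proj 𝒜).Opens)), ∃ m ∈ ℳ n, ∀ x : ProjectiveSpectrum 𝒜,
      gval t ⟨x, trivial⟩ = LocalizedModule.mk m 1) := by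
  refine ⟨fun m hm h0 => ?_, fun t => ?_⟩
  · let I : Ideal R :=
      { carrier := {a | f a • m = 0}
        zero_mem' := by simp
        add_mem' := fun {a b} ha hb => by
          change f (a + b) • m = 0
          rw [map_add, add_smul, show f a • m = 0 from ha, show f b • m = 0 from hb, add_zero]
        smul_mem' := fun a b hb => by
          change f (a * b) • m = 0
          rw [map_mul, mul_smul, show f b • m = 0 from hb, smul_zero] }
    have h3 : (1 : R) ∈ I := one_mem_of_span I s hs fun r hr => by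
      obtain ⟨k, hk⟩ := h1 r hr m hm h0
      refine ⟨k, ?_⟩
      change f (r ^ k) • m = 0
      rw [map_pow]
      exact hk
    have h2 : f 1 • m = 0 := h3
    rwa [map_one, one_smul] at h2
  · let I : Ideal R :=
      { carrier := {a | ∃ m ∈ ℳ n, ∀ x : ProjectiveSpectrum 𝒜, f a • gval t ⟨x, trivial⟩ = LocalizedModule.mk m 1}
        zero_mem' := ⟨0, zero_mem _, fun x => by rw [map_zero, zero_smul, LocalizedModule.zero_mk]⟩
        add_mem' := fun {a b} ⟨m, hm, h⟩ ⟨m', hm', h'⟩ => ⟨m + m', add_mem hm hm', fun x => by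
          rw [map_add, add_smul, h, h', mk_add_mk_one]⟩
        smul_mem' := fun a b ⟨m, hm, h⟩ => ⟨f a • m, by
          have := smul_mem_add 𝒜 (ℳ := ℳ) (hf a) hm
          rwa [zero_add] at this, fun x => by
          change f (a * b) • _ = _
          rw [map_mul, mul_smul, h, LocalizedModule.smul'_mk]⟩ }
    have h1 : (1 : R) ∈ I := one_mem_of_span I s hs fun r hr => by
      obtain ⟨k, m, hm, hk⟩ := h2 r hr t
      refine ⟨k, m, hm, fun x => ?_⟩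
      rw [map_pow]
      exact hk x
    obtain ⟨m, hm, h2⟩ := h1
    refine ⟨m, hm, fun x => ?_⟩
    rw [← h2 x, map_one, one_smul]

end abs

section geom

variable {Y : Scheme.{u}} {𝒮 : RelProj.QCGrAlg Y}

theorem basicOpen_le_range (U : Y.Opens) (hU : IsAffineOpen U) (r : Γ(Y, U))
    [IsOpenImmersion (Proj.map (𝒮.res hU (hU.basicOpen r) (Y.basicOpen_le r)) (𝒮.irrelevant_le_map U hU r))] :
    Proj.basicOpen (𝒮.deg U hU) ((𝒮.str.app (op U)).hom r) ≤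
      (Proj.map (𝒮.res hU (hU.basicOpen r) (Y.basicOpen_le r)) (𝒮.irrelevant_le_map U hU r)).opensRange := by
  have hP := _root_.K35.RelProjExists.isRelProj 𝒮
  have h1 := K39.RelBase.le_opensRange_map hP hU (hU.basicOpen r) ⟨r, rfl⟩ (W := _ ⁻¹ᵁ Y.basicOpen r) le_rfl
  refine le_trans ?_ h1
  rw [← Scheme.Hom.comp_preimage, _root_.K35.RelProjBasic.emb_p hP U hU, Scheme.Hom.comp_preimage,
    Scheme.Hom.comp_preimage, hU.fromSpec_preimage_basicOpen]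
  exact (_root_.K35.ProjBasicZero.toSpecZero_preimage (𝒮.deg U hU) ((𝒮.strZero U hU).hom r)).ge

theorem isOpenImmersion_map (U : Y.Opens) (hU : IsAffineOpen U) (r : Γ(Y, U)) :
    IsOpenImmersion (Proj.map (𝒮.res hU (hU.basicOpen r) (Y.basicOpen_le r)) (𝒮.irrelevant_le_map U hU r)) :=
  K39.RelBase.isOpenImmersion_map (_root_.K35.RelProjExists.isRelProj 𝒮) hU (hU.basicOpen r) ⟨r, rfl⟩

variable (ℳ : RelProj.GrModule 𝒮) (hℳ : Coh.IsQCoh ((AMod.toOS 𝒮.toQCAlg).obj ℳ.mod))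

include hℳ in
/-- From an affine open to a basic open. -/
theorem bijective_basicOpen (U : Y.Opens) (hU : IsAffineOpen U) (r : Γ(Y, U)) [CompactSpace (Proj (𝒮.deg U hU))]
    {n : ℕ} (h : Function.Bijective (GrMod.alpha (𝒮.deg U hU) (ℳ.deg U hU) n)) :
    Function.Bijective (GrMod.alpha (𝒮.deg (Y.basicOpen r) (hU.basicOpen r))
      (ℳ.deg (Y.basicOpen r) (hU.basicOpen r)) n) := by
  have := isOpenImmersion_map (𝒮 := 𝒮) U hU r
  exact bijective_of_isLocHom (𝒮.irrelevant_le_map U hU r)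
    (fun i m hm => ℳ.res_mem hU (hU.basicOpen r) (Y.basicOpen_le r) i m hm)
    (K39.RelBase.isLocHom_res ℳ hℳ U hU r) (basicOpen_le_range U hU r) h

include hℳ in
/-- From a covering by basic opens to an affine open. -/
theorem bijective_of_span (U : Y.Opens) (hU : IsAffineOpen U) [CompactSpace (Proj (𝒮.deg U hU))]
    (s : Set Γ(Y, U)) (hs : Ideal.span s = ⊤) {n : ℕ}
    (h : ∀ r ∈ s, Function.Bijective (GrMod.alpha (𝒮.deg (Y.basicOpen r) (hU.basicOpen r))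
      (ℳ.deg (Y.basicOpen r) (hU.basicOpen r)) n)) :
    Function.Bijective (GrMod.alpha (𝒮.deg U hU) (ℳ.deg U hU) n) := by
  rw [bijective_iff]
  refine bijective_of_span_aux (𝒜 := 𝒮.deg U hU) (ℳ := ℳ.deg U hU) (𝒮.str.app (op U)).hom (𝒮.str_mem U hU) s hs (fun r hr m hm h0 => ?_)
    (fun r hr t => ?_)
  · exact exists_pow_smul_eq_zero (𝒮.irrelevant_le_map U hU r)
      (fun i m hm => ℳ.res_mem hU (hU.basicOpen r) (Y.basicOpen_le r) i m hm)
      (K39.RelBase.isLocHom_res ℳ hℳ U hU r) (h r hr) hm h0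
  · have := isOpenImmersion_map (𝒮 := 𝒮) U hU r
    exact exists_pow_smul_eq (𝒮.irrelevant_le_map U hU r)
      (fun i m hm => ℳ.res_mem hU (hU.basicOpen r) (Y.basicOpen_le r) i m hm)
      (K39.RelBase.isLocHom_res ℳ hℳ U hU r) (fun x hx => basicOpen_le_range U hU r hx) (h r hr) t

/-- Bijectivity of `α_n` over an affine open. -/
def Good (n : ℕ) (U : Y.Opens) (hU : IsAffineOpen U) : Prop :=
  Function.Bijective (GrMod.alpha (𝒮.deg U hU) (ℳ.deg U hU) n)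

theorem good_congr {n : ℕ} {U V : Y.Opens} (h : U = V) (hU : IsAffineOpen U) (hV : IsAffineOpen V)
    (hg : Good ℳ n U hU) : Good ℳ n V hV := by
  subst h
  exact hg

include hℳ in
/-- **Uniform bound.** -/
theorem exists_uniform [IsNoetherian Y]
    (hft : ∀ (U : Y.Opens) (hU : IsAffineOpen U), (𝒮.str.app (op U)).hom.FiniteType) (hTF : ℳ.IsTF) :
    ∃ N : ℕ, ∀ n : ℕ, N ≤ n → ∀ (U : Y.Opens) (hU : IsAffineOpen U), Good ℳ n U hU := by
  have hN : ∀ (U : Y.Opens) (hU : IsAffineOpen U), IsNoetherianRing (𝒮.presheaf.obj (op U)) := fun U hU =>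
    RelTwCoh.isNoetherianRing_sec 𝒮 U hU (hft U hU)
  have hc : ∀ (U : Y.Opens) (hU : IsAffineOpen U), CompactSpace (Proj (𝒮.deg U hU)) := fun U hU => by
    have := hN U hU
    exact compactSpace_proj (𝒮.deg U hU)
  obtain ⟨k, hk⟩ := hTF
  have h1 : ∀ U : Y.affineOpens, ∃ N : ℕ, ∀ n : ℕ, N ≤ n → Good ℳ n U.1 U.2 := fun U => by
    have := hN U.1 U.2
    exact GrTF.bijective (𝒮.deg U.1 U.2) (ℳ.deg U.1 U.2) ⟨k, hk U.1 U.2⟩
  choose N hN' using h1
  obtain ⟨t, ht⟩ := (isCompact_univ (X := Y)).elim_finite_subcover (fun U : Y.affineOpens => (U.1 : Set Y))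
    (fun U => U.1.isOpen) (by
      intro x _
      obtain ⟨U, hU, hxU, -⟩ := exists_isAffineOpen_mem_and_subset (x := x) (U := ⊤) trivial
      exact Set.mem_iUnion.mpr ⟨⟨U, hU⟩, hxU⟩)
  refine ⟨t.sup N, fun n hn U hU => ?_⟩
  have := hc U hU
  refine bijective_of_span ℳ hℳ U hU {r | Good ℳ n (Y.basicOpen r) (hU.basicOpen r)} ?_ fun r hr => hr
  rw [← hU.iSup_basicOpen_eq_self_iff]
  refine le_antisymm (iSup_le fun r => Y.basicOpen_le r.1) ?_
  intro x hx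
  obtain ⟨W, hWt, hxW⟩ := Set.mem_iUnion₂.mp (ht (Set.mem_univ x))
  obtain ⟨f, g, hfg, hxf⟩ := exists_basicOpen_le_affine_inter hU W.2 x ⟨hx, hxW⟩
  have := hc W.1 W.2
  have h2 : Good ℳ n (Y.basicOpen g) (W.2.basicOpen g) :=
    bijective_basicOpen ℳ hℳ W.1 W.2 g (hN' W n ((Finset.le_sup hWt).trans hn))
  exact Opens.mem_iSup.mpr ⟨⟨f, good_congr ℳ hfg.symm _ _ h2⟩, hxf⟩

end geom

end Groth.Agent.Coherent.K46.RelAlpha

end
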