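import Groth.Agent.Coherent.K46.UnitMod
import Groth.Agent.CohqB.FinAmple
import Groth.Agent.S0061
import Groth.Agent.S0056

/-!
# Systems of modules on a tower of thickenings of an algebraized scheme

`T : Tow I` a tower over the thickenings of `V(I)`, `Y` over `Spec A` with `T.X n = Y ×_A Spec(A/I^(n+1))`.
A compatible system of modules `F n` on `T.X n` gives a formal module on `Y`.
-/

set_option autoImplicit false
universe u

open CategoryTheory CategoryTheory.Limits AlgebraicGeometry Opposite TopologicalSpace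

namespace Groth.Agent.Coherent.K46.ThickSys

open Groth.Agent.CohqB.AlgThick Groth.Agent.CohqB.AlgMod Groth.Agent.FormalB.ModPow
open Groth.Agent.FormalA Groth.Agent.FormalA.AlgTower

variable {A : Type u} [CommRing A] {I : Ideal A} (T : Tow I) {Y : Scheme.{u}}
  [Y.Over (Spec (CommRingCat.of A))] (e : ∀ n, T.X n ⟶ Y)
  (he : ∀ n, IsPullback (e n) (T.p n) (Y ↘ Spec (CommRingCat.of A)) (CohB1.specQuot I n))
  (het : ∀ n, e n = T.t n ≫ e (n + 1))
  (F : ∀ n, (T.X n).Modules)
  (ψ : ∀ n, (Scheme.Modules.pullback (T.t n)).obj (F (n + 1)) ≅ F n)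

/-- The transition map on `T.X (n+1)`. -/
noncomputable def q (n : ℕ) : F (n + 1) ⟶ (Scheme.Modules.pushforward (T.t n)).obj (F n) :=
  (Scheme.Modules.pullbackPushforwardAdjunction (T.t n)).unit.app (F (n + 1)) ≫
    (Scheme.Modules.pushforward (T.t n)).map (ψ n).hom

theorem isModPow_q (n : ℕ) : IsModPow (I ^ (n + 1)) (q T F ψ n) := by
  have h : IsPullback (T.t n) (T.p n) (T.X (n + 1) ↘ Spec (CommRingCat.of A))
      (Spec.map (CommRingCat.ofHom (Ideal.Quotient.mk (I ^ (n + 1))))) := T.cart' n
  exact (UnitMod.isModPow_unit h (F (n + 1))).comp_iso _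

/-- The transition map on `Y`. -/
noncomputable def tr (n : ℕ) : (Scheme.Modules.pushforward (e (n + 1))).obj (F (n + 1)) ⟶
    (Scheme.Modules.pushforward (e n)).obj (F n) :=
  (Scheme.Modules.pushforward (e (n + 1))).map (q T F ψ n) ≫
    (Scheme.Modules.pushforwardComp (T.t n) (e (n + 1))).hom.app (F n) ≫
    (Scheme.Modules.pushforwardCongr (het n).symm).hom.app (F n)

include he in
theorem e_over (n : ℕ) : e n ≫ (Y ↘ Spec (CommRingCat.of A)) = T.X n ↘ Spec (CommRingCat.of A) :=
  (he n).w

include he in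
theorem isClosedImmersion_e (n : ℕ) : IsClosedImmersion (e n) :=
  MorphismProperty.of_isPullback (P := @IsClosedImmersion) (he n).flip inferInstance

include he in
theorem isModPow_tr [IsNoetherianRing A] (n : ℕ) : IsModPow (I ^ (n + 1)) (tr T e het F ψ n) := by
  have := isClosedImmersion_e T e he (n + 1)
  have h1 : IsModPow (I ^ (n + 1)) ((Scheme.Modules.pushforward (e (n + 1))).map (q T F ψ n)) :=
    ExPush.isModPow_pushforward (e (n + 1)) (e_over T e he (n + 1))
      (e (n + 1)).isClosedEmbedding.isInducing Set.univ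
      (by rw [Set.image_univ]; exact (e (n + 1)).isClosedEmbedding.isClosed_range)
      (Set.subset_univ _) (IsNoetherian.noetherian _) (isModPow_q T F ψ n)
  exact h1.comp_iso _

/-- The formal module on `Y`. -/
noncomputable def G : ℕᵒᵖ ⥤ Y.Modules :=
  Functor.ofOpSequence (X := fun n => (Scheme.Modules.pushforward (e n)).obj (F n))
    (fun n => tr T e het F ψ n)

omit [Y.Over (Spec (CommRingCat.of A))] in
theorem G_obj (n : ℕ) : (G T e het F ψ).obj (op n) = (Scheme.Modules.pushforward (e n)).obj (F n) :=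
  rfl

omit [Y.Over (Spec (CommRingCat.of A))] in
theorem G_map_succ (n : ℕ) : (G T e het F ψ).map (homOfLE (Nat.le_succ n)).op =
    tr T e het F ψ n :=
  Functor.ofOpSequence_map_homOfLE_succ _ n

include he in
theorem isFormal [IsNoetherianRing A] : IsFormal I (G T e het F ψ) where
  killed n := by
    have h : IsPullback (e n) (T.p n) (Y ↘ Spec (CommRingCat.of A))
      (Spec.map (CommRingCat.ofHom (Ideal.Quotient.mk (I ^ (n + 1))))) := he n
    exact UnitMod.killedBy_of_isPullback h (F n)
  succ n := by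
    rw [G_map_succ]
    exact isModPow_tr T e he het F ψ n

include he in
theorem isCohFormal [IsNoetherianRing A] (hF : ∀ n, Coh.IsCoh (F n)) :
    Formal.IsCohFormal I (G T e het F ψ) := by
  rw [isCohFormal_iff]
  refine ⟨fun n => ?_, isFormal T e he het F ψ⟩
  have := isClosedImmersion_e T e he n
  exact CohqB.FinAmple.isCoh_push (e n) (hF n)

include he het ψ in
/-- The system comes from a coherent module on `Y`. -/
theorem exists_coh [IsNoetherianRing A] [IsAdicComplete I A]
    [IsProper (Y ↘ Spec (CommRingCat.of A))] {L : Y.Modules} (hL : CohB1.IsAmple L)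
    (hF : ∀ n, Coh.IsCoh (F n)) :
    ∃ M : Y.Modules, Coh.IsCoh M ∧ ∀ n, Nonempty ((Scheme.Modules.pullback (e n)).obj M ≅ F n) := by
  obtain ⟨M, hM, ⟨α⟩⟩ := S0061.exists_of_isAmple A I Y L hL (G T e het F ψ)
    (isCohFormal T e he het F ψ hF)
  refine ⟨M, hM, fun n => ?_⟩
  have h : IsPullback (e n) (T.p n) (Y ↘ Spec (CommRingCat.of A))
      (Spec.map (CommRingCat.ofHom (Ideal.Quotient.mk (I ^ (n + 1))))) := he n
  exact UnitMod.nonempty_iso_of_isModPow h ((isModPow_cπ I M n).comp_iso (α.app (op n)).hom)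

end Groth.Agent.Coherent.K46.ThickSys
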