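import Groth.Agent.Coherent.K46.ThickSys
import Groth.Agent.CohqA.UnifVanAmple
import Groth.Agent.CohqA.KerGr
import Groth.Agent.VarietyB.HHPush
import Groth.Agent.CohqB.SerTw

/-!
# Uniform vanishing on all levels of a coherent formal module
-/

set_option autoImplicit false
universe u

open CategoryTheory CategoryTheory.Limits AlgebraicGeometry Opposite TopologicalSpace

namespace Groth.Agent.Coherent.K46.ThickVan

open Groth.Agent.FormalB.ModPow

/-- Uniform vanishing for all the levels of a coherent formal module. -/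
theorem uniform_levels (A : Type u) [CommRing A] [IsNoetherianRing A] (I : Ideal A)
    (X : Scheme.{u}) [X.Over (Spec (CommRingCat.of A))] [IsProper (X ↘ Spec (CommRingCat.of A))]
    (L : X.Modules) (hL : CohB1.IsAmple L) (G : ℕᵒᵖ ⥤ X.Modules) (hG : Formal.IsCohFormal I G) :
    ∃ d₀ : ℕ, ∀ (d : ℕ), d₀ ≤ d → ∀ n p : ℕ, 0 < p →
      Subsingleton (Coh.HH X (CohB1.tensorMod (G.obj (op n)) (CohB1.tensorPow L d)) p) := by
  obtain ⟨hc, hF⟩ := (isCohFormal_iff I G).mp hG
  have hX : IsNoetherian X := FormalB.GrCoh.isNoetherian_of_isProper (A := A)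
  obtain ⟨r, f, hf⟩ := Submodule.fg_iff_exists_fin_generating_family.mp (IsNoetherian.noetherian I)
  have hmem : ∀ i, f i ∈ I := fun i => by
    rw [← hf]
    exact Submodule.subset_span ⟨i, rfl⟩
  obtain ⟨d₁, h₁⟩ := CohqA.UnifVan.uniform_vanishing (A := A) hL (CohqA.KerGr.kerGr hF f hmem)
    (CohqA.KerGr.isCoh_kerGr hF hc f hmem) (CohqA.KerGr.gen_kerGr hF f hmem hf)
  obtain ⟨d₂, h₂⟩ := (S0051.result A X (X ↘ Spec (CommRingCat.of A)) L hL.1).mp hL
    (G.obj (op 0)) (hc 0)
  refine ⟨max d₁ d₂, fun d hd n p hp => ?_⟩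
  induction n with
  | zero => exact h₂ d (by omega) p hp
  | succ n ih =>
    have hepi : Epi (G.map (homOfLE (Nat.le_succ n)).op) := (hF.succ n).epi
    have hS : (ShortComplex.mk (kernel.ι (G.map (homOfLE (Nat.le_succ n)).op))
        (G.map (homOfLE (Nat.le_succ n)).op) (kernel.condition _)).ShortExact :=
      { exact := ShortComplex.exact_of_f_is_kernel _ (kernelIsKernel _)
        mono_f := inferInstance
        epi_g := hepi }
    have h3 := CohqB.SerTw.shortExact_tw (Fdesc.LocGen.isInvertible_tensorPow hL.1 d) hS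
    exact CohqA.UnifVan.subsingleton_mid h3 p (h₁ n d (by omega) p hp) ih

end Groth.Agent.Coherent.K46.ThickVan
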