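import Groth.Agent.FormalA.AlgTower
import Groth.Agent.FormalA.PullbackQC

/-!
# The unit `M ⟶ j_* j^* M` for the base change `j` of `Spec (A/J) ⟶ Spec A`

For every module `M` it is the quotient by `J M`, in the sense of `IsModPow`; and `j^* N ≅ F` if `j_* F` is the
quotient of `N` by `J N`.
-/

set_option autoImplicit false
universe u

open CategoryTheory CategoryTheory.Limits AlgebraicGeometry Opposite TopologicalSpace

namespace Groth.Agent.Coherent.K46.UnitMod

open Groth.Agent.CohqB.AlgThick Groth.Agent.CohqB.AlgMod Groth.Agent.FormalB.ModPow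
open Groth.Agent.FormalA

variable {A : Type u} [CommRing A] {X : Scheme.{u}} [X.Over (Spec (CommRingCat.of A))]
  {J : Ideal A} {Y : Scheme.{u}} {j : Y ⟶ X} {q : Y ⟶ Spec (CommRingCat.of (A ⧸ J))}

/-- A module killed by `J` is killed by the ideal of the base change of `Spec (A/J)`. -/
theorem killedByIdeal_ker (hj : IsPullback j q (X ↘ Spec (CommRingCat.of A))
      (Spec.map (CommRingCat.ofHom (Ideal.Quotient.mk J)))) {N : X.Modules} (hN : Formal.KilledBy J N) :
    ClSub.KilledByIdeal j.ker N := by
  intro U x hx m
  rw [ker_ideal hj U] at hx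
  induction hx using Submodule.span_induction with
  | mem x hx =>
    obtain ⟨y, hy, rfl⟩ := hx
    exact congr(($(hN y hy)).app U.1 m)
  | zero => exact zero_smul _ _
  | add x x' _ _ h1 h2 => rw [add_smul, h1, h2, add_zero]
  | smul c x _ h1 => rw [smul_assoc, h1, smul_zero]

theorem isClosedImmersion (hj : IsPullback j q (X ↘ Spec (CommRingCat.of A))
      (Spec.map (CommRingCat.ofHom (Ideal.Quotient.mk J)))) : IsClosedImmersion j := by
  have : IsClosedImmersion (Spec.map (CommRingCat.ofHom (Ideal.Quotient.mk J))) :=
    IsClosedImmersion.spec_of_surjective _ Ideal.Quotient.mk_surjective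
  exact MorphismProperty.of_isPullback hj.flip this

/-- Modules on `Y` are killed by `J`. -/
theorem killedBy_of_isPullback (hj : IsPullback j q (X ↘ Spec (CommRingCat.of A))
      (Spec.map (CommRingCat.ofHom (Ideal.Quotient.mk J)))) (F : Y.Modules) :
    Formal.KilledBy J ((Scheme.Modules.pushforward j).obj F) := by
  intro a ha
  have := isClosedImmersion hj
  have h := ClosedImm.killed_pushforward (i := j) F
  apply hom_ext_affine
  intro V hV m
  rw [smulMod_app']
  refine (h ⟨V, hV⟩ _ ?_ m).trans ?_
  · rw [ker_ideal hj]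
    exact Ideal.mem_map_of_mem _ ha
  · rfl

/-- Every module on `Y` is killed by `J`, `Y` over `Spec A` through `X`. -/
theorem killedBy_self (hj : IsPullback j q (X ↘ Spec (CommRingCat.of A))
      (Spec.map (CommRingCat.ofHom (Ideal.Quotient.mk J)))) [Y.Over (Spec (CommRingCat.of A))]
    (hjA : j ≫ (X ↘ Spec (CommRingCat.of A)) = Y ↘ Spec (CommRingCat.of A)) (F : Y.Modules) :
    Formal.KilledBy J F := by
  intro a ha
  have := isClosedImmersion hj
  apply (Scheme.Modules.pushforward j).map_injective
  rw [ExPush.pushforward_map_smulMod j hjA, killedBy_of_isPullback hj F a ha, Functor.map_zero]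

/-- The unit `M ⟶ j_* j^* M` is the quotient by `J M`. -/
theorem isModPow_unit (hj : IsPullback j q (X ↘ Spec (CommRingCat.of A))
      (Spec.map (CommRingCat.ofHom (Ideal.Quotient.mk J)))) (M : X.Modules) :
    IsModPow J ((Scheme.Modules.pullbackPushforwardAdjunction j).unit.app M) := by
  let _ : Y.Over (Spec (CommRingCat.of A)) := ⟨j ≫ (X ↘ Spec (CommRingCat.of A))⟩
  have hjA : j ≫ (X ↘ Spec (CommRingCat.of A)) = Y ↘ Spec (CommRingCat.of A) := rfl
  have := isClosedImmersion hj
  have hp : IsModPow J (cokernel.π (Formal.smulFamily J M)) := isModPow_cokernelπ J M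
  have h1 : IsIso ((Scheme.Modules.pullbackPushforwardAdjunction j).unit.app
      (cokernel (Formal.smulFamily J M))) :=
    ClosedImm.isIso_unit j (killedByIdeal_ker hj hp.killedBy)
  have h2 : IsIso ((Scheme.Modules.pullback j).map (cokernel.π (Formal.smulFamily J M))) :=
    (ExPush.isModPow_pullback j hjA hp).isIso_of_killedBy (killedBy_self hj hjA _)
  have h3 := (Scheme.Modules.pullbackPushforwardAdjunction j).unit.naturality
    (cokernel.π (Formal.smulFamily J M))
  have h4 : (Scheme.Modules.pullbackPushforwardAdjunction j).unit.app M =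
      cokernel.π (Formal.smulFamily J M) ≫
        (Scheme.Modules.pullbackPushforwardAdjunction j).unit.app (cokernel (Formal.smulFamily J M)) ≫
        inv ((Scheme.Modules.pushforward j).map
          ((Scheme.Modules.pullback j).map (cokernel.π (Formal.smulFamily J M)))) := by
    rw [← Category.assoc, IsIso.eq_comp_inv]
    exact h3.symm
  rw [h4]
  exact hp.comp_iso _

/-- If `j_* F` is the quotient of `N` by `J N` then `j^* N ≅ F`. -/
theorem nonempty_iso_of_isModPow (hj : IsPullback j q (X ↘ Spec (CommRingCat.of A))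
      (Spec.map (CommRingCat.ofHom (Ideal.Quotient.mk J)))) {N : X.Modules} {F : Y.Modules}
    {p : N ⟶ (Scheme.Modules.pushforward j).obj F} (hp : IsModPow J p) :
    Nonempty ((Scheme.Modules.pullback j).obj N ≅ F) := by
  have := isClosedImmersion hj
  obtain ⟨e, -, -⟩ := (isModPow_unit hj N).exists_iso hp
  exact ⟨(Scheme.Modules.pushforward j).preimageIso e⟩

end Groth.Agent.Coherent.K46.UnitMod
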