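import Groth.Agent.Sga4h.WayOut
import Groth.Agent.Dcoh.DerComp
import Groth.Agent.S0476
import Groth.Agent.S0484
import Groth.Agent.PerfA.QCohExt
import Groth.Agent.PerfA.CohSerre
import Groth.Agent.CycB.CohProp

/-!
# The way-out lemma in a range of degrees

If `R^q G X ∈ P` for `q ≤ n` and `R^p G' (P) ⊆ Q` for all `p`, then `R^q (G ⋙ G') X ∈ Q` for `q ≤ n`.
-/

set_option autoImplicit false

universe w w' v v' v'' u u' u''

open CategoryTheory CategoryTheory.Limits

namespace Groth.Agent.Coherent.K46.WayOutLe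

open Groth.Agent.Sga4h.WayOut

section wayOut

open Pretriangulated DerivedCategory

variable {A : Type u} [Category.{v} A] [Abelian A] [HasDerivedCategory.{w} A]
  {B : Type u'} [Category.{v'} B] [Abelian B] [HasDerivedCategory.{w'} B]
  (F : DerivedCategory A ⥤ DerivedCategory B) [F.CommShift ℤ] [F.IsTriangulated]

/-- The way-out lemma, degrees `≤ m`. -/
theorem wayOut_le {P : ObjectProperty A} {Q : ObjectProperty B} (hQ : WeakSerre Q)
    (hP : ∀ {X Y : A}, (X ≅ Y) → P X → P Y)
    (hF : ∀ (K : DerivedCategory A) (a : ℤ), K.IsGE a → (F.obj K).IsGE a)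
    (h : ∀ M : A, P M → ∀ q : ℤ, Q ((homologyFunctor B q).obj (F.obj ((singleFunctor A 0).obj M))))
    (m : ℤ) (K : DerivedCategory A) (a : ℤ) [hK : K.IsGE a]
    (hPK : ∀ i : ℤ, a ≤ i → i ≤ m → P ((homologyFunctor A i).obj K))
    (q : ℤ) (hqm : q ≤ m) : Q ((homologyFunctor B q).obj (F.obj K)) := by
  have key : ∀ (k : ℕ) (a : ℤ) (K : DerivedCategory A), K.IsGE a →
      (∀ i : ℤ, a ≤ i → i ≤ m → P ((homologyFunctor A i).obj K)) → ∀ q : ℤ, q < a + k → q ≤ m →
      Q ((homologyFunctor B q).obj (F.obj K)) := by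
    intro k
    induction k with
    | zero =>
      intro a K hK _ q hq _
      have := hF K a hK
      exact hQ.zero _ (DerivedCategory.isZero_of_isGE _ a q (by simpa using hq))
    | succ k ih =>
      intro a K hK hPK q hq hqm
      by_cases haq : q < a
      · have := hF K a hK
        exact hQ.zero _ (DerivedCategory.isZero_of_isGE _ a q haq)
      obtain ⟨X, Y, hX, hY, f, g, δ, hT⟩ := Cohder.KZDevissage.exists_trunc K a
      have hXa : X.IsGE a := Cohder.KZDevissage.trunc₁_isGE hT a a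
      have hf : IsIso ((homologyFunctor A a).map f) := Cohder.KZDevissage.isIso_trunc₁ hT a a le_rfl
      obtain ⟨M, ⟨e⟩⟩ := exists_iso_singleFunctor_obj_of_isGE_of_isLE X a
      have hM : P M := hP ((asIso ((homologyFunctor A a).map f)).symm ≪≫
        (homologyFunctor A a).mapIso e ≪≫ (singleFunctorCompHomologyFunctorIso A a).app M)
          (hPK a le_rfl (by lia))
      have hX' : ∀ q : ℤ, Q ((homologyFunctor B q).obj (F.obj X)) := by
        intro q
        obtain ⟨e'⟩ := nonempty_iso_homology_single F M a q (q - a) (by lia)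
        exact hQ.iso ((homologyFunctor B q).mapIso (F.mapIso e) ≪≫ e').symm (h M hM (q - a))
      have hY' : ∀ q : ℤ, q < a + 1 + k → q ≤ m → Q ((homologyFunctor B q).obj (F.obj Y)) := by
        refine ih (a + 1) Y hY ?_
        intro i hi him
        have := Cohder.KZDevissage.isIso_trunc₂ hT a i (by lia)
        exact hP (asIso ((homologyFunctor A i).map g)) (hPK i (by lia) him)
      have hFT := F.map_distinguished _ hT
      exact homology_mid hQ _ hFT q (hY' (q - 1) (by push_cast at hq; lia) (by lia)) (hX' q)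
        (hY' q (by push_cast at hq; lia) hqm) (hX' (q + 1))
  exact key ((q - a).toNat + 1) a K hK hPK q (by push_cast; lia) hqm

end wayOut

section comp

open DerivedCategory Etrest.RDer3

variable {A : Type u} [Category.{v} A] [Abelian A] {B : Type u'} [Category.{v'} B] [Abelian B]
  {C : Type u''} [Category.{v''} C] [Abelian C] (G : A ⥤ B) [G.Additive] (G' : B ⥤ C) [G'.Additive]

attribute [local instance] HasDerivedCategory.standard

/-- `H^q(TR G' K) ∈ Q`, `q ≤ m`, if `R^p G'(P) ⊆ Q` and `K` is bounded below with `H^i K ∈ P`, `i ≤ m`. -/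
theorem homology_TR_le [EnoughInjectives B] [HasKInj B] {P : ObjectProperty B} {Q : ObjectProperty C}
    (hQ : WeakSerre Q) (hP : ∀ {X Y : B}, (X ≅ Y) → P X → P Y)
    (h : ∀ M : B, P M → ∀ q : ℕ, Q ((G'.rightDerived q).obj M)) (m : ℤ)
    (K : DerivedCategory B) (a : ℤ) [K.IsGE a]
    (hPK : ∀ i : ℤ, a ≤ i → i ≤ m → P ((homologyFunctor B i).obj K))
    (q : ℤ) (hq : q ≤ m) : Q ((homologyFunctor C q).obj ((TR G').obj K)) := by
  refine wayOut_le (TR G') hQ hP (fun K a hK => TR_isGE G' K a) ?_ m K a hPK q hq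
  intro M hM q
  by_cases hq : q < 0
  · exact hQ.zero _ (isZero_HTRsingle G' M q hq)
  · obtain ⟨n, rfl⟩ := Int.eq_ofNat_of_zero_le (not_lt.1 hq)
    exact hQ.iso ((HTRsingle G' n).app M).symm (h M hM n)

/-- Leray in a range: `R^q G X ∈ P` for `q ≤ m` and `R^p G' (P) ⊆ Q` imply `R^n (G ⋙ G') X ∈ Q`, `n ≤ m`. -/
theorem rightDerived_comp_le [EnoughInjectives A] [HasKInj A] [EnoughInjectives B] [HasKInj B]
    (hG : ∀ I : CochainComplex A ℤ, I.IsKInjective →
      CochainComplex.IsKInjective ((G.mapHomologicalComplex (.up ℤ)).obj I))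
    {P : ObjectProperty B} {Q : ObjectProperty C} (hQ : WeakSerre Q)
    (hP : ∀ {X Y : B}, (X ≅ Y) → P X → P Y)
    (h : ∀ M : B, P M → ∀ q : ℕ, Q ((G'.rightDerived q).obj M))
    (X : A) (m : ℕ) (hX : ∀ q : ℕ, q ≤ m → P ((G.rightDerived q).obj X)) (n : ℕ) (hn : n ≤ m) :
    Q (((G ⋙ G').rightDerived n).obj X) := by
  have h₁ : ((TR G).obj ((singleFunctor A 0).obj X)).IsGE 0 := TR_isGE G _ 0
  have h₂ := homology_TR_le G' hQ hP h (m : ℤ) ((TR G).obj ((singleFunctor A 0).obj X)) 0
    (fun i hi him => by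
      obtain ⟨k, rfl⟩ := Int.eq_ofNat_of_zero_le hi
      exact hP ((HTRsingle G k).app X).symm (hX k (by exact_mod_cast him))) n (by exact_mod_cast hn)
  exact hQ.iso ((homologyFunctor C (n : ℤ)).mapIso ((TRcomp G G' hG).app _).symm ≪≫
    (HTRsingle (G ⋙ G') n).app X) h₂

end comp

section Mod

open AlgebraicGeometry

theorem hasKInj_modules (X : Scheme.{u}) : Etrest.RDer3.HasKInj X.Modules :=
  ⟨fun K => by
    have : IsGrothendieckAbelian.{u} X.Modules := Groth.Agent.S0484.result _ X.ringCatSheaf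
    obtain ⟨I, f, h1, h2, -⟩ := Groth.Agent.S0476.result K
    exact ⟨I, f, h1, h2⟩⟩

/-- Coherent modules on a locally Noetherian scheme. -/
theorem weakSerre_coh (X : Scheme.{u}) [IsLocallyNoetherian X] :
    WeakSerre (fun M : X.Modules => Coh.IsCoh M) where
  iso e h := CohqB.LocalQC.isCoh_of_iso e h
  zero M h := CohqB.LocalQC.isCoh_of_isZero h
  ker f h1 h2 := CycB.CohProp.isCoh_kernel f h1 h2
  coker f h1 h2 := CycB.CohProp.isCoh_cokernel f h1 h2
  ext S hS h1 h3 := CycB.CohProp.isCoh_extension S hS h1 h3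

end Mod

end Groth.Agent.Coherent.K46.WayOutLe
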